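import Cfsg.Agent.H972.CS.LinkOf_m3
import Cfsg.Agent.H994.KE.Base_m3
import Cfsg.Agent.BpExc.AsmN_m3
import Cfsg.Agent.Lib.FinFast
import Mathlib
import Cfsg.Agent.Prune
set_option linter.all false

section
prune_inst 0x7f00000000000000000000000000000000000000000000000000000000000000000000000000000000000000000000000000000000000000000000000000000000000000000000000000000000000000003fddffffffffffffffffffffffffbeffbdefffffff

-- part: H38/CS/Gen
section
set_option linter.all false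
open scoped Cfsg.Agent.FastGrp

/-!
# S5745: class sizes in the untwisted groups from the kernel evaluation (helper38)

* `cent_le` : if the kernel evaluation `Data.ok` succeeds with the bound `K` at all representatives, then the
  centralisers of the elements of order `s` in `D.group F` have order at most `K`;
* `cG_ge`, `cG_ge_iso` : the same in terms of class sizes.
-/

set_option autoImplicit false
set_option linter.unusedSectionVars false

namespace Cfsg.Agent.H38.CS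

open CoxeterSystem Cfsg Cfsg.Lie Cfsg.Lie.ChevalleyDatum
open Cfsg.Agent.ChevalleyStructure Cfsg.Agent.ChevalleyStructure.Elts Cfsg.Agent.ChevalleyStructure.CoxeterGeom
  Cfsg.Agent.ChevalleyStructure.CoxeterGeomTypes Cfsg.Agent.ChevalleyStructure.NPerm
open Cfsg.Agent.Tits.Roots Cfsg.Agent.Tits.Core Cfsg.Agent.Nodes Cfsg.Agent.Nodes.Reps Cfsg.Agent.Nodes.BNOf
  Cfsg.Agent.Nodes.RGDChev
open Cfsg.Agent.KFacts.RgdField Cfsg.Agent.KFacts.RgdChevCoord
open Cfsg.Agent.BpExc Cfsg.Agent.BpExc.NChev Cfsg.Agent.H129.TorusChar Cfsg.Agent.H129.TorusUntw Cfsg.Agent.H972.CS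
  Cfsg.Agent.H972.CS.Main Cfsg.Agent.H972.CS.Eval

universe u v

section

variable {D : ChevalleyDatum} {l : ℕ} {M : CoxeterMatrix (Fin l)} (hp : IsType D l M)
  {F : Type u} [Field F] [Fintype F]

/-- **Centralisers from the evaluation** (untwisted groups). -/
theorem cent_le {d : ℕ} {B' : Fin l → Fin l → ℤ} (hB' : InvC D l d B') (hd : d ≠ 0) (hd1 : d = 1 ∨ d.Prime)
    {s K : ℕ} (hs : s.Prime) (hsF : (s : F) ≠ 0) {Rf : Set ((Fin l → ℤ) →+ ZMod s)}
    (hRf : Meets hp M.toCoxeterSystem Rf) {Da : Data} {B : Fin l → Fin l → ℤ} (L : Link Da hp M.toCoxeterSystem B)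
    {ε : ℤ} (hg : GOk Da hp M.toCoxeterSystem B (AddEquiv.refl (Fin l → ℤ)) ε)
    (hok : ∀ f ∈ Rf, f ≠ 0 → ∃ fl : List ℤ, fl.length = l ∧ (∀ i : Fin l, f (sr i) = ((fl.getD i 0 : ℤ) : ZMod s)) ∧
      Da.ok l (Fintype.card F) s ε K fl = true) {x : ↥(D.group F)} (hx : orderOf x = s) :
    Nat.card ↥(Subgroup.centralizer {x}) ≤ K := by
  obtain ⟨r, e, hr, hrF, hrk, he, hq, hk⟩ := exists_closure (F := F) rfl
  have hsr : s ≠ r := by
    rintro rfl
    exact hsF (CharP.cast_eq_zero F s)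
  obtain ⟨p, hp2, hpd⟩ : ∃ p : ℕ, p.Prime ∧ ¬ p ∣ d := by
    obtain ⟨p, h1, h2⟩ := Nat.exists_infinite_primes (d + 1)
    exact ⟨p, h2, fun h => by have := Nat.le_of_dvd (Nat.pos_of_ne_zero hd) h; omega⟩
  have : Fact p.Prime := ⟨hp2⟩
  have hset := Cfsg.Agent.H795.Untw.setup_untw hp hk (algebraMap F (AlgebraicClosure F)) he hq hB' hd hd1 (p := p) hpd
  have hfin := finite_W hp M.toCoxeterSystem
  have hxs : x ^ s = 1 := by rw [← hx, pow_orderOf_eq_one]
  have hx1 : x ≠ 1 := by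
    rintro rfl
    rw [orderOf_one] at hx
    exact hs.one_lt.ne hx
  let _ := ZMod.algebra F r
  have h1 : Algebra.IsAlgebraic (ZMod r) F := Algebra.IsAlgebraic.of_finite _ _
  have h2 : Algebra.IsAlgebraic (ZMod r) (AlgebraicClosure F) := Algebra.IsAlgebraic.trans (ZMod r) F _
  obtain ⟨z, hz⟩ := TorAll.exists_toral' hp r (y := Cfsg.Agent.GpExc.Field.emb hp.inList (algebraMap F (AlgebraicClosure F)) x) hs hsr
    (by rw [← map_pow, hxs, map_one])
  obtain ⟨f, hf, hf0, w, hP, hC⟩ := bound_setup hk hset hB' hd hs hsr hRf hxs hx1 rfl hz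
  obtain ⟨fl, hfl, hfv, hok1⟩ := hok f hf hf0
  rw [hq] at hok1
  have hs' := hs.pos
  obtain ⟨Cw, hCw, hv⟩ := ok_sound L hg (pow_pos (Fact.out : r.Prime).pos e) hfl hfv hP hok1
  exact (hC Cw hCw).trans hv

end

section

variable {G : Type*} [Group G]

theorem cG_mul [Finite G] (x : G) :
    Cfsg.Agent.H742.EX.cG x * Nat.card ↥(Subgroup.centralizer {x}) = Nat.card G := by
  rw [Cfsg.Agent.H742.EX.card_G x]
  congr 1
  refine Nat.card_congr (Equiv.subtypeEquivRight fun g => ?_)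
  show g ∈ Subgroup.centralizer {x} ↔ g⁻¹ * x * g = x
  rw [Subgroup.mem_centralizer_singleton_iff, mul_assoc, inv_mul_eq_iff_eq_mul]
  exact ⟨fun h => h.symm, fun h => h.symm⟩

/-- from the centraliser to the class -/
theorem cG_ge [Finite G] {x : G} {K c : ℕ} (hK : Nat.card ↥(Subgroup.centralizer {x}) ≤ K) (hc : c * K ≤ Nat.card G) :
    c ≤ Cfsg.Agent.H742.EX.cG x := by
  by_contra hcon
  push Not at hcon
  have h1 := cG_mul x
  have h2 : 0 < Nat.card ↥(Subgroup.centralizer {x}) := Nat.card_pos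
  have h3 : Cfsg.Agent.H742.EX.cG x * Nat.card ↥(Subgroup.centralizer {x}) < c * K := by
    calc Cfsg.Agent.H742.EX.cG x * Nat.card ↥(Subgroup.centralizer {x})
        < c * Nat.card ↥(Subgroup.centralizer {x}) := Nat.mul_lt_mul_of_pos_right hcon h2
      _ ≤ c * K := Nat.mul_le_mul_left _ hK
  omega

end

end Cfsg.Agent.H38.CS
end

-- part: H972/CS/F4Two
section
set_option linter.all false
open scoped Cfsg.Agent.FastGrp

-- part: H972/CS/F4Link
section
/-!
# The data of the evaluator for the type `F4` (helper972)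

* `data4`, `link4` : the data and the link;
* `gok_one` : the lattice map `1`;
* `kac4 s`, `meets4` : the Kac coordinates of degree `s`.
-/

set_option autoImplicit false
set_option linter.unusedSectionVars false

namespace Cfsg.Agent.H972.CS.F4Link

open CoxeterSystem Cfsg Cfsg.Lie Cfsg.Lie.ChevalleyDatum
open Cfsg.Agent.ChevalleyStructure Cfsg.Agent.ChevalleyStructure.Elts Cfsg.Agent.ChevalleyStructure.CoxeterGeom
  Cfsg.Agent.ChevalleyStructure.CoxeterGeomTypes Cfsg.Agent.ChevalleyStructure.NPerm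
open Cfsg.Agent.Tits.Roots Cfsg.Agent.Tits.Core Cfsg.Agent.Nodes Cfsg.Agent.Nodes.Reps Cfsg.Agent.Nodes.BNOf
  Cfsg.Agent.Nodes.RGDChev Cfsg.Agent.H129.TorusChar Cfsg.Agent.H129.TorusMain Cfsg.Agent.H972.CS.Main
  Cfsg.Agent.H972.CS.Torus Cfsg.Agent.H972.CS.Eval Cfsg.Agent.H972.CS.LinkOf

/-- the roots -/
def Rt4 : List (List ℤ) :=
  [[-2, -4, -3, -2], [-2, -4, -3, -1], [-2, -4, -2, -1], [-2, -3, -2, -1], [-2, -2, -2, -1],
   [-2, -2, -1, -1], [-2, -2, -1, 0], [-1, -3, -2, -1], [-1, -2, -2, -1], [-1, -2, -1, -1], [-1, -2, -1, 0],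
   [-1, -1, -1, -1], [-1, -1, -1, 0], [-1, -1, 0, 0], [-1, 0, 0, 0], [0, -2, -2, -1], [0, -2, -1, -1],
   [0, -2, -1, 0], [0, -1, -1, -1], [0, -1, -1, 0], [0, -1, 0, 0], [0, 0, -1, -1], [0, 0, -1, 0],
   [0, 0, 0, -1], [0, 0, 0, 1], [0, 0, 1, 0], [0, 0, 1, 1], [0, 1, 0, 0], [0, 1, 1, 0], [0, 1, 1, 1],
   [0, 2, 1, 0], [0, 2, 1, 1], [0, 2, 2, 1], [1, 0, 0, 0], [1, 1, 0, 0], [1, 1, 1, 0], [1, 1, 1, 1],
   [1, 2, 1, 0], [1, 2, 1, 1], [1, 2, 2, 1], [1, 3, 2, 1], [2, 2, 1, 0], [2, 2, 1, 1], [2, 2, 2, 1],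
   [2, 3, 2, 1], [2, 4, 2, 1], [2, 4, 3, 1], [2, 4, 3, 2]]

/-- the functionals `B x` -/
def G4 : List (List ℤ) :=
  [[0, 0, 0, -2], [0, 0, -2, 2], [0, -2, 2, 0], [-1, 0, 0, 0], [-2, 2, -2, 0], [-2, 0, 2, -2], [-2, 0, 0, 2],
   [1, -1, 0, 0], [0, 1, -2, 0], [0, -1, 2, -2], [0, -1, 0, 2], [-1, 1, 0, -2], [-1, 1, -2, 2],
   [-1, -1, 2, 0], [-2, 1, 0, 0], [2, 0, -2, 0], [2, -2, 2, -2], [2, -2, 0, 2], [1, 0, 0, -2], [1, 0, -2, 2],
   [1, -2, 2, 0], [0, 2, -2, -2], [0, 2, -4, 2], [0, 0, 2, -4], [0, 0, -2, 4], [0, -2, 4, -2], [0, -2, 2, 2],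
   [-1, 2, -2, 0], [-1, 0, 2, -2], [-1, 0, 0, 2], [-2, 2, 0, -2], [-2, 2, -2, 2], [-2, 0, 2, 0],
   [2, -1, 0, 0], [1, 1, -2, 0], [1, -1, 2, -2], [1, -1, 0, 2], [0, 1, 0, -2], [0, 1, -2, 2], [0, -1, 2, 0],
   [-1, 1, 0, 0], [2, 0, 0, -2], [2, 0, -2, 2], [2, -2, 2, 0], [1, 0, 0, 0], [0, 2, -2, 0], [0, 0, 2, -2],
   [0, 0, 0, 2]]

/-- the codes of the roots -/
def Cd4 : List ℤ :=
  [-10763, -5850, -5561, -5544, -5527, -5238, -325, -5543, -5526, -5237, -324, -5220, -307, -18, -1, -5525,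
   -5236, -323, -5219, -306, -17, -5202, -289, -4913, 4913, 289, 5202, 17, 306, 5219, 323, 5236, 5525, 1, 18,
   307, 5220, 324, 5237, 5526, 5543, 325, 5238, 5527, 5544, 5561, 5850, 10763]

/-- the Gram matrix -/
def BL4 : List (List ℤ) :=
  [[2, -1, 0, 0], [-1, 2, -2, 0], [0, -2, 4, -2], [0, 0, -2, 4]]

/-- the pairs of orthogonal roots -/
def O4 : ℕ := 0x22e5a5a74400456ac356a20089b318cd9100001ffff80002165318ca68441a8ac35158281d05a5a0b810e1c07e038702662c18346644aa34422c5528cc38241c331630d8241b0c6a5154422a8a5c918c1831893e0e007e00707387809901e1c54b414282d2a92cc224433497c005a5a003eba00ac35005dd601318c806b554a900952aa933260064cc939870810e19c39870810e19c933260064cc9554a900952aad601318c806bba00ac35005d7c005a5a003e92cc2244334954b414282d2a387809901e1ce0e007e00707c918c1831893a5154422a8a5630d8241b0c68cc38241c3314aa34422c5522662c18346640e1c07e0387081d05a5a0b8141a8ac3515822165318ca6840001ffff8000089b318cd9100456ac356a20022e5a5a7440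

/-- the pairs of roots with product `-1` -/
def P4 : ℕ := 0x7f800000000000000000000000000000000000000002001c07080004080c1888000810142888001020183088002018044308004028084508008030104608010038003808000000000000000000000000000000000000002e00000b80005600001580009a0000268000000000000000000000000000000000000000000000000000000000000000000000000001640000590001a800006a0001d000007400000000000000000000000000000000000000101c001c00801062080c010010a21014020010c220180400110c1804080011142808100011183010200010e03800400000000000000000000000000000000000000001fe00000000000000000000000000000000000000000000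

/-- the pairs of roots with product `-2` -/
def Q4 : ℕ := 0xa58bbe0000014a95dd0000061326eb00000000007f0000c860596b000152806a5d0001a500743e000000038087000000608113000002810225000005020446000040a008310000814010520001060020640001c00040700606006f01830a0a029682850c1205198486020000a580010400014a8002080006130004222448c48911244489289112422852250a218450a44a14424889149122248891231224442000c86000104001528000208001a5000040612198a04830a14169405050c180f60060600e02000380002604006080004a08028100008c1005020000622040a00000a44081400000c88106000000e101c00000007c2e00a58000ba56014a8000d69a06130000fe0000000000d764c8600000bba9528000007dd1a5000000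

/-- the relations -/
def R4 (b : ℤ) : ℕ := if b = 0 then O4 else if b = -1 then P4 else if b = -2 then Q4 else 0

/-- the bilinear form -/
def B4 (i j : Fin 4) : ℤ := (BL4.getD i []).getD j 0

/-- **The data.** -/
def data4 : Data where
  N := 48
  Rt := Rt4
  ev := [1, 17, 289, 4913]
  Cd := Cd4
  rel i j := R4 ((BL4.getD i []).getD j 0)
  cv := [0, 0, 0, 0]
  m := 1

private noncomputable def _root_.Cfsg.Agent.LsF.f882ad0_0 : {f // @Cfsg.Agent.H972.CS.Eval.dot = f} := ⟨_, by first | (delta Cfsg.Agent.H972.CS.Eval.dot List.brecOn List.brecOn.go Cfsg.Agent.H972.CS.Eval.dot._f; rewrite [Cfsg.Agent.LsF.iadd_pat, Cfsg.Agent.LsF.imul_pat]; (try delta Cfsg.Agent.H972.CS.Eval.dot.match_1); (try delta Cfsg.Agent.H972.CS.Eval.okr._sparseCasesOn_1); first | dsimp -zeta only | exact rfl) | exact rfl⟩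
private noncomputable def _root_.Cfsg.Agent.LsF.f882ad0_1 : {f // @Cfsg.Agent.H972.CS.LinkOf.rowChk = f} := ⟨_, by first | (delta Cfsg.Agent.H972.CS.LinkOf.rowChk List.brecOn List.brecOn.go Cfsg.Agent.H972.CS.LinkOf.rowChk._f; rewrite [Cfsg.Agent.LsF.f882ad0_0.2, Cfsg.Agent.LsF.nadd_pat, Cfsg.Agent.LsF.nmul_pat, Cfsg.Agent.LsF.instIBEq_pat, Cfsg.Agent.LsF.and_eq, Cfsg.Agent.LsF.or_eq, Cfsg.Agent.LsF.not_eq, Cfsg.Agent.LsF.testBit_eq, Cfsg.Agent.LsF.contains_eq]; (try delta Cfsg.Agent.H972.CS.LinkOf.rowChk.match_1); (try delta List.casesOn); first | dsimp -zeta only | exact rfl) | exact rfl⟩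
private noncomputable def _root_.Cfsg.Agent.LsF.f882ad0_2 : {f // @Cfsg.Agent.H972.CS.LinkOf.allChk = f} := ⟨_, by first | (delta Cfsg.Agent.H972.CS.LinkOf.allChk List.brecOn List.brecOn.go Cfsg.Agent.H972.CS.LinkOf.allChk._f; rewrite [Cfsg.Agent.LsF.f882ad0_1.2, Cfsg.Agent.LsF.nadd_pat, Cfsg.Agent.LsF.and_eq]; (try delta Cfsg.Agent.H972.CS.LinkOf.rowChk.match_1); (try delta List.casesOn); first | dsimp -zeta only | exact rfl) | exact rfl⟩
private noncomputable def _root_.Cfsg.Agent.LsF.f882ad0_3 : {f // @Cfsg.Agent.H972.CS.F4Link.R4 = f} := ⟨_, by first | (delta Cfsg.Agent.H972.CS.F4Link.R4; rewrite [Cfsg.Agent.LsF.ineg_pat, Cfsg.Agent.LsF.instIDecEq_eq, Cfsg.Agent.LsF.ite_eq]; exact rfl) | exact rfl⟩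
set_option maxRecDepth 1000000 in
theorem all4 : allChk R4 [0, -1, -2] 48 Rt4 G4 0 = true := by ((try (rewrite [Cfsg.Agent.LsF.f882ad0_2.2, Cfsg.Agent.LsF.f882ad0_3.2, Cfsg.Agent.LsF.ineg_pat])); decide +kernel)

variable {M : CoxeterMatrix (Fin 4)} (hp : IsType chevF4 4 M) {W : Type*} [Group W] (cs : CoxeterSystem M W)

private noncomputable def _root_.Cfsg.Agent.LsF.f882ad0_4 : {f // @Cfsg.Agent.H972.CS.F4Link.data4 = f} := ⟨_, by first | (delta Cfsg.Agent.H972.CS.F4Link.data4; rewrite [Cfsg.Agent.LsF.f882ad0_3.2, Cfsg.Agent.LsF.getD_eq]; exact rfl) | exact rfl⟩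
private noncomputable def _root_.Cfsg.Agent.LsF.f882ad0_5 : {f // @Cfsg.Agent.H972.CS.Eval.vl = f} := ⟨_, by first | (delta Cfsg.Agent.H972.CS.Eval.vl; rewrite [Cfsg.Agent.LsF.getD_eq]; exact rfl) | exact rfl⟩
private noncomputable def _root_.Cfsg.Agent.LsF.f882ad0_6 : {f // @Cfsg.Agent.H972.CS.Eval.Data.rt = f} := ⟨_, by first | (delta Cfsg.Agent.H972.CS.Eval.Data.rt; rewrite [Cfsg.Agent.LsF.getD_eq]; exact rfl) | exact rfl⟩
private noncomputable def _root_.Cfsg.Agent.LsF.f882ad0_7 : {f // @Cfsg.Agent.H972.CS.F4Link.B4 = f} := ⟨_, by first | (delta Cfsg.Agent.H972.CS.F4Link.B4; rewrite [Cfsg.Agent.LsF.getD_eq]; exact rfl) | exact rfl⟩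
set_option maxRecDepth 1000000 in
/-- **The link.** -/
theorem link4 : Link data4 hp cs B4 :=
  link_of hp cs data4 B4 G4 R4 [0, -1, -2] (by decide +kernel) (by decide +kernel) (by decide +kernel)
    (by decide +kernel) (by decide +kernel) (by decide +kernel) (by decide +kernel) (by decide +kernel)
    (by decide +kernel) (by (refine of_decide_eq_true ?_; (try (rewrite [Cfsg.Agent.LsF.sumF_pat, Cfsg.Agent.LsF.f882ad0_4.2, Cfsg.Agent.LsF.f882ad0_5.2, Cfsg.Agent.LsF.f882ad0_6.2, Cfsg.Agent.LsF.f882ad0_7.2, Cfsg.Agent.LsF.iadd_pat, Cfsg.Agent.LsF.imul_pat, Cfsg.Agent.LsF.iACM_eq, Cfsg.Agent.LsF.getD_eq, Cfsg.Agent.LsF.instIDecEq_eq, Cfsg.Agent.LsF.dBallLT_eq, Cfsg.Agent.LsF.dForallFin_eq, Cfsg.Agent.LsF.decide_eq])); decide +kernel)) (by decide +kernel) (by decide +kernel) all4 (by decide +kernel)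
    (by decide +kernel)

theorem gok_one : GOk data4 hp cs B4 (AddEquiv.refl _) 1 where
  root a ha := ha
  inv _ _ := rfl
  cv := ⟨0, by rw [one_smul, smul_zero]; exact sub_self _⟩

/-- the tuples with `∑ m_i c_i ≤ n` -/
def tups : List ℕ → ℕ → List (List ℤ)
  | [], _ => [[]]
  | m :: ms, n => (List.range (n + 1)).flatMap fun c =>
      if m * c ≤ n then (tups ms (n - m * c)).map fun t => (c : ℤ) :: t else []

theorem mem_tups : ∀ (ms : List ℕ) (n : ℕ) (t : List ℕ), t.length = ms.length → (∀ m ∈ ms, 0 < m) →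
    (List.zipWith (· * ·) ms t).sum ≤ n → t.map (fun c : ℕ => (c : ℤ)) ∈ tups ms n := by
  intro ms
  induction ms with
  | nil =>
    intro n t ht _ _
    rw [List.length_nil, List.length_eq_zero_iff] at ht
    subst ht
    exact List.mem_singleton_self _
  | cons m ms ih =>
    intro n t ht hm hs
    cases t with
    | nil => simp at ht
    | cons c t =>
      rw [List.zipWith_cons_cons, List.sum_cons] at hs
      have h1 := hm m List.mem_cons_self
      rw [tups, List.mem_flatMap]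
      refine ⟨c, List.mem_range.2 ?_, ?_⟩
      · have : c ≤ m * c := Nat.le_mul_of_pos_left c h1
        omega
      · rw [if_pos (by omega), List.map_cons, List.mem_map]
        refine ⟨_, ih (n - m * c) t (by simpa using ht) (fun m' h => hm m' (List.mem_cons_of_mem _ h)) (by omega), rfl⟩

/-- the Kac coordinates of degree `s` (without `c0`) -/
def kac4 (s : ℕ) : List (List ℤ) := tups [2, 4, 3, 2] s

theorem kac_length {s : ℕ} {fl : List ℤ} (h : fl ∈ kac4 s) : fl.length = 4 := by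
  have key : ∀ (ms : List ℕ) (n : ℕ) (t : List ℤ), t ∈ tups ms n → t.length = ms.length := by
    intro ms
    induction ms with
    | nil =>
      intro n t ht
      rw [tups, List.mem_singleton] at ht
      rw [ht]; rfl
    | cons m ms ih =>
      intro n t ht
      rw [tups, List.mem_flatMap] at ht
      obtain ⟨c, -, hc⟩ := ht
      split_ifs at hc with h1
      · rw [List.mem_map] at hc
        obtain ⟨t', ht', rfl⟩ := hc
        rw [List.length_cons, List.length_cons, ih _ _ ht']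
      · simp at hc
  exact key _ _ _ h

set_option maxRecDepth 1000000 in
theorem hr4 : ∀ i : Fin 4, Cfsg.Agent.H931.KC.hr chevF4 4 i = (([2, 4, 3, 2] : List ℤ).getD i 0) := by decide +kernel

/-- **The Kac coordinates meet all orbits.** -/
theorem meets4 (hp : IsType chevF4 4 M) {s : ℕ} (hs : 0 < s) :
    Meets hp M.toCoxeterSystem (RfL 4 s (kac4 s)) := by
  refine meets_alcove hp hs _ fun c c0 hK => ?_
  refine ⟨(List.ofFn c).map (fun c : ℕ => (c : ℤ)), mem_tups _ _ _ (by simp) (by decide) ?_, fun i => ?_⟩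
  · have h1 := hK.sum
    simp only [hr4] at h1
    simp only [List.ofFn_succ, List.ofFn_zero, List.zipWith_cons_cons, List.zipWith_nil_left, List.sum_cons, List.sum_nil]
    simp only [Fin.sum_univ_succ, Finset.univ_eq_empty, Finset.sum_empty] at h1
    simp at h1 ⊢
    omega
  · fin_cases i <;> simp [List.ofFn_succ]

end Cfsg.Agent.H972.CS.F4Link
end

-- part: H972/CS/F4Two
section
/-!
# The centralisers of the elements of prime order of `F₄(2)` (helper972)

* `f4_cent` : the bound from the kernel evaluation, any `q`;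
* `two_three` .. `two_thirteen` : `|C(x)| ≤ 4354560, 3600, 1176, 13` for `x` of order `3, 5, 7, 13` in `F₄(2)`.
-/

set_option autoImplicit false
set_option linter.unusedSectionVars false

namespace Cfsg.Agent.H972.CS.F4Two

open CoxeterSystem Cfsg Cfsg.Lie Cfsg.Lie.ChevalleyDatum
open Cfsg.Agent.ChevalleyStructure Cfsg.Agent.ChevalleyStructure.Elts Cfsg.Agent.ChevalleyStructure.CoxeterGeom
  Cfsg.Agent.ChevalleyStructure.CoxeterGeomTypes Cfsg.Agent.ChevalleyStructure.NPerm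
open Cfsg.Agent.Tits.Roots Cfsg.Agent.Tits.Core Cfsg.Agent.Nodes Cfsg.Agent.Nodes.Reps Cfsg.Agent.Nodes.BNOf
  Cfsg.Agent.Nodes.RGDChev Cfsg.Agent.H129.TorusChar Cfsg.Agent.H129.TorusUntw
open Cfsg.Agent.H972.CS.Main Cfsg.Agent.H972.CS.Eval Cfsg.Agent.H972.CS.LinkOf Cfsg.Agent.H972.CS.F4Link

universe u

theorem isF4 : IsType chevF4 4 CoxeterMatrix.F₄ := by simp [IsType, typeList]

/-- the check over all Kac points -/
def chk4 (q s K : ℕ) : Bool := (kac4 s).all fun fl => (fl.all fun c => c % (s : ℤ) == 0) || data4.ok 4 q s 1 K fl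

/-- **Centralisers in `F₄(q)` from the kernel evaluation.** -/
theorem f4_cent {F : Type u} [Field F] [Fintype F] {q s K : ℕ} (hF : Fintype.card F = q) (hs : s.Prime)
    (hsF : (s : F) ≠ 0) (hc : chk4 q s K = true) {x : ↥(chevF4.group F)} (hx : orderOf x = s) :
    Nat.card ↥(Subgroup.centralizer {x}) ≤ K := by
  subst hF
  refine Cfsg.Agent.H38.CS.cent_le isF4 invC_F4 one_ne_zero (Or.inl rfl) hs hsF (meets4 isF4 hs.pos)
    (link4 isF4 _) (gok_one isF4 _) ?_ hx
  rintro f ⟨fl, hfl, hf⟩ hf0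
  have hl := kac_length hfl
  refine ⟨fl, hl, hf, ?_⟩
  unfold chk4 at hc
  rw [List.all_eq_true] at hc
  have h1 := hc fl hfl
  rw [Bool.or_eq_true] at h1
  rcases h1 with h1 | h1
  · exfalso
    apply hf0
    rw [List.all_eq_true] at h1
    refine AddMonoidHom.ext fun y => ?_
    rw [eq_sum_sr y, map_sum]
    refine Finset.sum_eq_zero fun i _ => ?_
    have h2 : fl.getD i 0 ∈ fl := by
      rw [List.getD_eq_getElem _ _ (by rw [hl]; exact i.2)]
      exact List.getElem_mem _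
    have h3 := h1 _ h2
    rw [beq_iff_eq] at h3
    rw [map_zsmul, hf, eq_of_mod h3, smul_zero]
  · exact h1

private noncomputable def _root_.Cfsg.Agent.LsF.f882ad0_8 : {f // @Cfsg.Agent.H972.CS.F4Link.tups = f} := ⟨_, by first | (delta Cfsg.Agent.H972.CS.F4Link.tups List.brecOn List.brecOn.go Cfsg.Agent.H972.CS.F4Link.tups._f; rewrite [Cfsg.Agent.LsF.nadd_pat, Cfsg.Agent.LsF.nmul_pat, Cfsg.Agent.LsF.nsub_pat, Cfsg.Agent.LsF.icast_pat, Cfsg.Agent.LsF.decLe_eq, Cfsg.Agent.LsF.map_eq, Cfsg.Agent.LsF.flatMap_eq, Cfsg.Agent.LsF.range_eq, Cfsg.Agent.LsF.ite_eq]; (try delta Cfsg.Agent.H972.CS.F4Link.tups.match_1); (try delta List.casesOn); first | dsimp -zeta only | exact rfl) | exact rfl⟩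
private noncomputable def _root_.Cfsg.Agent.LsF.f882ad0_9 : {f // @Cfsg.Agent.H972.CS.F4Link.kac4 = f} := ⟨_, by first | (delta Cfsg.Agent.H972.CS.F4Link.kac4; rewrite [Cfsg.Agent.LsF.f882ad0_8.2]; exact rfl) | exact rfl⟩
private noncomputable def _root_.Cfsg.Agent.LsF.f882ad0_10 : {f // @Cfsg.Agent.H972.CS.Eval.okr = f} := ⟨_, by first | (delta Cfsg.Agent.H972.CS.Eval.okr List.brecOn List.brecOn.go Cfsg.Agent.H972.CS.Eval.okr._f; rewrite [Cfsg.Agent.LsF.nadd_pat, Cfsg.Agent.LsF.nmul_pat, Cfsg.Agent.LsF.and_eq, Cfsg.Agent.LsF.testBit_eq]; (try delta Cfsg.Agent.H972.CS.Eval.okr.match_1); (try delta Cfsg.Agent.H972.CS.Eval.okr._sparseCasesOn_1); first | dsimp -zeta only | exact rfl) | exact rfl⟩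
private noncomputable def _root_.Cfsg.Agent.LsF.f882ad0_11 : {f // @Cfsg.Agent.H972.CS.Eval.dfs = f} := ⟨_, by first | (delta Cfsg.Agent.H972.CS.Eval.dfs List.brecOn List.brecOn.go Cfsg.Agent.H972.CS.Eval.dfs._f; rewrite [Cfsg.Agent.LsF.f882ad0_10.2, Cfsg.Agent.LsF.flatMap_eq, Cfsg.Agent.LsF.filter_eq]; (try delta Cfsg.Agent.H972.CS.Eval.dfs.match_1); (try delta List.casesOn Prod.casesOn); first | dsimp -zeta only | exact rfl) | exact rfl⟩
private noncomputable def _root_.Cfsg.Agent.LsF.f882ad0_12 : {f // @Cfsg.Agent.H972.CS.Eval.specs = f} := ⟨_, by first | (delta Cfsg.Agent.H972.CS.Eval.specs Nat.brecOn.go Nat.brecOn Cfsg.Agent.H972.CS.Eval.specs._f; rewrite [Cfsg.Agent.LsF.nadd_pat, Cfsg.Agent.LsF.map_eq, Cfsg.Agent.LsF.reverse_eq, Cfsg.Agent.LsF.range_eq]; (try delta Cfsg.Agent.H972.CS.Eval.specs.match_1); (try delta Nat.casesOn); first | dsimp -zeta only | exact rfl) | exact rfl⟩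
private noncomputable def _root_.Cfsg.Agent.LsF.f882ad0_13 : {f // @Cfsg.Agent.H972.CS.Eval.Data.cd = f} := ⟨_, by first | (delta Cfsg.Agent.H972.CS.Eval.Data.cd; rewrite [Cfsg.Agent.LsF.getD_eq]; exact rfl) | exact rfl⟩
private noncomputable def _root_.Cfsg.Agent.LsF.f882ad0_14 : {f // @Cfsg.Agent.H972.CS.Eval.Data.cls = f} := ⟨_, by first | (delta Cfsg.Agent.H972.CS.Eval.Data.cls; rewrite [Cfsg.Agent.LsF.f882ad0_0.2, Cfsg.Agent.LsF.f882ad0_6.2, Cfsg.Agent.LsF.f882ad0_13.2, Cfsg.Agent.LsF.isub_pat, Cfsg.Agent.LsF.imod_pat, Cfsg.Agent.LsF.ibeq_pat, Cfsg.Agent.LsF.and_eq, Cfsg.Agent.LsF.or_eq, Cfsg.Agent.LsF.not_eq, Cfsg.Agent.LsF.filter_eq, Cfsg.Agent.LsF.range_eq, Cfsg.Agent.LsF.idecLt_eq, Cfsg.Agent.LsF.decide_eq]; exact rfl) | exact rfl⟩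
private noncomputable def _root_.Cfsg.Agent.LsF.f882ad0_15 : {f // @Cfsg.Agent.H972.CS.Eval.Data.ths = f} := ⟨_, by first | (delta Cfsg.Agent.H972.CS.Eval.Data.ths; rewrite [Cfsg.Agent.LsF.f882ad0_11.2, Cfsg.Agent.LsF.f882ad0_12.2, Cfsg.Agent.LsF.f882ad0_14.2, Cfsg.Agent.LsF.imul_pat, Cfsg.Agent.LsF.imod_pat, Cfsg.Agent.LsF.icast_pat, Cfsg.Agent.LsF.ibeq_pat, Cfsg.Agent.LsF.getD_eq]; exact rfl) | exact rfl⟩
private noncomputable def _root_.Cfsg.Agent.LsF.f882ad0_16 : {f // @Cfsg.Agent.H972.CS.Eval.Data.chk = f} := ⟨_, by first | (delta Cfsg.Agent.H972.CS.Eval.Data.chk; rewrite [Cfsg.Agent.LsF.f882ad0_0.2, Cfsg.Agent.LsF.f882ad0_13.2, Cfsg.Agent.LsF.imul_pat, Cfsg.Agent.LsF.isub_pat, Cfsg.Agent.LsF.imod_pat, Cfsg.Agent.LsF.ibeq_pat, Cfsg.Agent.LsF.map_eq]; exact rfl) | exact rfl⟩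
private noncomputable def _root_.Cfsg.Agent.LsF.f882ad0_17 : {f // @Cfsg.Agent.H972.CS.Eval.Data.keep = f} := ⟨_, by first | (delta Cfsg.Agent.H972.CS.Eval.Data.keep; rewrite [Cfsg.Agent.LsF.f882ad0_0.2, Cfsg.Agent.LsF.f882ad0_13.2, Cfsg.Agent.LsF.all_eq, Cfsg.Agent.LsF.map_eq, Cfsg.Agent.LsF.idecLe_eq, Cfsg.Agent.LsF.decide_eq]; exact rfl) | exact rfl⟩
private noncomputable def _root_.Cfsg.Agent.LsF.f882ad0_18 : {f // @Cfsg.Agent.H972.CS.Eval.Data.psiL = f} := ⟨_, by first | (delta Cfsg.Agent.H972.CS.Eval.Data.psiL; rewrite [Cfsg.Agent.LsF.f882ad0_6.2, Cfsg.Agent.LsF.f882ad0_0.2, Cfsg.Agent.LsF.f882ad0_13.2, Cfsg.Agent.LsF.imod_pat, Cfsg.Agent.LsF.ibeq_pat, Cfsg.Agent.LsF.and_eq, Cfsg.Agent.LsF.map_eq, Cfsg.Agent.LsF.filter_eq, Cfsg.Agent.LsF.range_eq, Cfsg.Agent.LsF.idecLt_eq, Cfsg.Agent.LsF.decide_eq]; exact rfl) | exact rfl⟩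
private noncomputable def _root_.Cfsg.Agent.LsF.f882ad0_19 : {f // @Cfsg.Agent.H972.CS.Eval.sumR = f} := ⟨_, by first | (delta Cfsg.Agent.H972.CS.Eval.sumR Nat.brecOn.go Nat.brecOn Cfsg.Agent.H972.CS.Eval.sumR._f; rewrite [Cfsg.Agent.LsF.iadd_pat]; (try delta Cfsg.Agent.H972.CS.Eval.specs.match_1); (try delta Nat.casesOn); first | dsimp -zeta only | exact rfl) | exact rfl⟩
private noncomputable def _root_.Cfsg.Agent.LsF.f882ad0_20 : {f // @Cfsg.Agent.H972.CS.Eval.detL = f} := ⟨_, by first | (delta Cfsg.Agent.H972.CS.Eval.detL List.brecOn List.brecOn.go List.eraseIdx Nat.brecOn.go Nat.brecOn Cfsg.Agent.H972.CS.Eval.detL._f List.eraseIdx._f; rewrite [Cfsg.Agent.LsF.f882ad0_19.2, Cfsg.Agent.LsF.nadd_pat, Cfsg.Agent.LsF.nmod_pat, Cfsg.Agent.LsF.imul_pat, Cfsg.Agent.LsF.ineg_pat, Cfsg.Agent.LsF.instDecEq_eq, Cfsg.Agent.LsF.map_eq, Cfsg.Agent.LsF.getD_eq, Cfsg.Agent.LsF.headD_eq, Cfsg.Agent.LsF.tail_eq, Cfsg.Agent.LsF.instIDecEq_eq,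 Cfsg.Agent.LsF.ite_eq]; (try delta Cfsg.Agent.H972.CS.Eval.detL.match_1); (try delta List.eraseIdx.match_1); (try delta Nat.casesOn List.casesOn); first | dsimp -zeta only | exact rfl) | exact rfl⟩
private noncomputable def _root_.Cfsg.Agent.LsF.f882ad0_21 : {f // @Cfsg.Agent.H972.CS.Eval.Data.rows = f} := ⟨_, by first | (delta Cfsg.Agent.H972.CS.Eval.Data.rows; rewrite [Cfsg.Agent.LsF.f882ad0_6.2, Cfsg.Agent.LsF.isub_pat, Cfsg.Agent.LsF.icast_pat, Cfsg.Agent.LsF.instDecEq_eq, Cfsg.Agent.LsF.map_eq, Cfsg.Agent.LsF.range_eq, Cfsg.Agent.LsF.getD_eq, Cfsg.Agent.LsF.ite_eq]; exact rfl) | exact rfl⟩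
private noncomputable def _root_.Cfsg.Agent.LsF.f882ad0_22 : {f // @Cfsg.Agent.H972.CS.Eval.Data.comm = f} := ⟨_, by first | (delta Cfsg.Agent.H972.CS.Eval.Data.comm; rewrite [Cfsg.Agent.LsF.f882ad0_0.2, Cfsg.Agent.LsF.f882ad0_6.2, Cfsg.Agent.LsF.f882ad0_13.2, Cfsg.Agent.LsF.ibeq_pat, Cfsg.Agent.LsF.all_eq, Cfsg.Agent.LsF.map_eq, Cfsg.Agent.LsF.zip_eq]; exact rfl) | exact rfl⟩
private noncomputable def _root_.Cfsg.Agent.LsF.f882ad0_23 : {f // @Cfsg.Agent.H972.CS.Eval.Data.cnt = f} := ⟨_, by first | (delta Cfsg.Agent.H972.CS.Eval.Data.cnt; rewrite [Cfsg.Agent.LsF.f882ad0_0.2, Cfsg.Agent.LsF.f882ad0_13.2, Cfsg.Agent.LsF.map_eq, Cfsg.Agent.LsF.filter_eq, Cfsg.Agent.LsF.idecLe_eq, Cfsg.Agent.LsF.length_eq, Cfsg.Agent.LsF.decide_eq]; exact rfl) | exact rfl⟩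
private noncomputable def _root_.Cfsg.Agent.LsF.f882ad0_24 : {f // @Cfsg.Agent.H972.CS.Eval.Data.wt = f} := ⟨_, by first | (delta Cfsg.Agent.H972.CS.Eval.Data.wt; rewrite [Cfsg.Agent.LsF.f882ad0_16.2, Cfsg.Agent.LsF.f882ad0_22.2, Cfsg.Agent.LsF.f882ad0_23.2, Cfsg.Agent.LsF.npow_pat, Cfsg.Agent.LsF.and_eq, Cfsg.Agent.LsF.reverse_eq, Cfsg.Agent.LsF.dBoolEq_eq, Cfsg.Agent.LsF.ite_eq]; exact rfl) | exact rfl⟩
private noncomputable def _root_.Cfsg.Agent.LsF.f882ad0_25 : {f // @Cfsg.Agent.H972.CS.Eval.Data.vs = f} := ⟨_, by first | (delta Cfsg.Agent.H972.CS.Eval.Data.vs; rewrite [Cfsg.Agent.LsF.f882ad0_11.2, Cfsg.Agent.LsF.f882ad0_12.2, Cfsg.Agent.LsF.f882ad0_14.2, Cfsg.Agent.LsF.getD_eq]; exact rfl) | exact rfl⟩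
private noncomputable def _root_.Cfsg.Agent.LsF.f882ad0_26 : {f // @Cfsg.Agent.H972.CS.Eval.Data.value = f} := ⟨_, by first | (delta Cfsg.Agent.H972.CS.Eval.Data.value; rewrite [Cfsg.Agent.LsF.f882ad0_20.2, Cfsg.Agent.LsF.f882ad0_21.2, Cfsg.Agent.LsF.f882ad0_18.2, Cfsg.Agent.LsF.f882ad0_24.2, Cfsg.Agent.LsF.f882ad0_25.2, Cfsg.Agent.LsF.nmul_pat, Cfsg.Agent.LsF.npow_pat, Cfsg.Agent.LsF.map_eq, Cfsg.Agent.LsF.sum_eq, Cfsg.Agent.LsF.natAbs_eq, Cfsg.Agent.LsF.length_eq]; exact rfl) | exact rfl⟩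
private noncomputable def _root_.Cfsg.Agent.LsF.f882ad0_27 : {f // @Cfsg.Agent.H972.CS.Eval.Data.ok = f} := ⟨_, by first | (delta Cfsg.Agent.H972.CS.Eval.Data.ok; rewrite [Cfsg.Agent.LsF.f882ad0_15.2, Cfsg.Agent.LsF.f882ad0_16.2, Cfsg.Agent.LsF.f882ad0_17.2, Cfsg.Agent.LsF.f882ad0_18.2, Cfsg.Agent.LsF.f882ad0_26.2, Cfsg.Agent.LsF.and_eq, Cfsg.Agent.LsF.or_eq, Cfsg.Agent.LsF.not_eq, Cfsg.Agent.LsF.decLe_eq, Cfsg.Agent.LsF.all_eq, Cfsg.Agent.LsF.reverse_eq, Cfsg.Agent.LsF.decide_eq]; exact rfl) | exact rfl⟩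
private noncomputable def _root_.Cfsg.Agent.LsF.f882ad0_28 : {f // @Cfsg.Agent.H972.CS.F4Two.chk4 = f} := ⟨_, by first | (delta Cfsg.Agent.H972.CS.F4Two.chk4; rewrite [Cfsg.Agent.LsF.f882ad0_9.2, Cfsg.Agent.LsF.f882ad0_27.2, Cfsg.Agent.LsF.f882ad0_4.2, Cfsg.Agent.LsF.imod_pat, Cfsg.Agent.LsF.icast_pat, Cfsg.Agent.LsF.ibeq_pat, Cfsg.Agent.LsF.or_eq, Cfsg.Agent.LsF.all_eq]; exact rfl) | exact rfl⟩
set_option maxRecDepth 1000000 in
theorem c3 : chk4 2 3 4354560 = true := by ((try (rewrite [Cfsg.Agent.LsF.f882ad0_28.2])); decide +kernel)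
set_option maxRecDepth 1000000 in
theorem c5 : chk4 2 5 3600 = true := by ((try (rewrite [Cfsg.Agent.LsF.f882ad0_28.2])); decide +kernel)
set_option maxRecDepth 1000000 in
theorem c7 : chk4 2 7 1176 = true := by ((try (rewrite [Cfsg.Agent.LsF.f882ad0_28.2])); decide +kernel)
set_option maxRecDepth 1000000 in
theorem c13 : chk4 2 13 13 = true := by ((try (rewrite [Cfsg.Agent.LsF.f882ad0_28.2])); decide +kernel)

theorem cast_ne {F : Type u} [Field F] [Fintype F] (hF : Fintype.card F = 2) {s : ℕ} (hs : s % 2 = 1) :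
    (s : F) ≠ 0 := by
  have h2 : (2 : F) = 0 := by
    have h1 := FiniteField.cast_card_eq_zero F
    rw [hF] at h1
    exact_mod_cast h1
  have h3 : (s : F) = 1 := by
    have h4 : s = 2 * (s / 2) + 1 := by omega
    rw [h4]
    push_cast
    rw [h2, zero_mul, zero_add]
  rw [h3]
  exact one_ne_zero

variable {F : Type u} [Field F] [Fintype F] (hF : Fintype.card F = 2) {x : ↥(chevF4.group F)}

include hF

theorem two_three (hx : orderOf x = 3) : Nat.card ↥(Subgroup.centralizer {x}) ≤ 4354560 :=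
  f4_cent hF Nat.prime_three (cast_ne hF rfl) c3 hx

theorem two_five (hx : orderOf x = 5) : Nat.card ↥(Subgroup.centralizer {x}) ≤ 3600 :=
  f4_cent hF Nat.prime_five (cast_ne hF rfl) c5 hx

theorem two_seven (hx : orderOf x = 7) : Nat.card ↥(Subgroup.centralizer {x}) ≤ 1176 :=
  f4_cent hF (by norm_num) (cast_ne hF rfl) c7 hx

theorem two_thirteen (hx : orderOf x = 13) : Nat.card ↥(Subgroup.centralizer {x}) ≤ 13 :=
  f4_cent hF (by norm_num) (cast_ne hF rfl) c13 hx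

end Cfsg.Agent.H972.CS.F4Two
end

private theorem dce_c40800a70c7b : _root_.True := by
  try have : _root_.True := by simp only [_root_.Cfsg.Agent.H972.CS.F4Link.tups.eq_1]
  try have : _root_.True := by simp only [_root_.Cfsg.Agent.H972.CS.F4Link.tups.eq_def]
  try have : _root_.True := by simp only [_root_.Cfsg.Agent.H972.CS.F4Link.tups.eq_2]
  exact _root_.True.intro
end

-- part: H27/TS/Det
section
set_option linter.all false
open scoped Cfsg.Agent.FastGrp

/-!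
The crude form of the centraliser formula (engine C* of helper972, `H972/CS/Main`).

* `det_le` : `|det (θ - q)| ≤ (q + 1) ^ l` for a lattice endomorphism `θ` of finite order;
* `theta_period` : `θ = w` has finite order (untwisted groups);
* `val_le` : `val ≤ (q + 1) ^ l * (q ^ (2 * |Ψ+|) * |W|)`.
-/

set_option autoImplicit false
set_option linter.unusedSectionVars false

namespace Cfsg.Agent.H27.TS.Det

open CoxeterSystem Cfsg Cfsg.Lie Cfsg.Lie.ChevalleyDatum
open Cfsg.Agent.ChevalleyStructure Cfsg.Agent.ChevalleyStructure.Elts Cfsg.Agent.ChevalleyStructure.CoxeterGeom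
  Cfsg.Agent.ChevalleyStructure.CoxeterGeomTypes Cfsg.Agent.ChevalleyStructure.NPerm
open Cfsg.Agent.Tits.Roots Cfsg.Agent.Tits.Core Cfsg.Agent.Nodes Cfsg.Agent.Nodes.Reps Cfsg.Agent.Nodes.BNOf
  Cfsg.Agent.Nodes.RGDChev
open Cfsg.Agent.H129.TorusMain Cfsg.Agent.H972.CS.Torus Cfsg.Agent.H972.CS.Main

section Mat

open Matrix

/-- the eigenvalues of a matrix of finite order have norm `1` -/
theorem norm_root {l N : ℕ} (hN : 0 < N) {A : Matrix (Fin l) (Fin l) ℂ} (hA : A ^ N = 1) {z : ℂ}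
    (hz : A.charpoly.IsRoot z) : ‖z‖ = 1 := by
  have h1 : (Matrix.scalar (Fin l) z - A).det = 0 := by
    rw [← Matrix.eval_charpoly]
    exact hz
  obtain ⟨v, hv0, hv⟩ := Matrix.exists_mulVec_eq_zero_iff.2 h1
  have h2 : A *ᵥ v = z • v := by
    rw [Matrix.sub_mulVec, sub_eq_zero] at hv
    rw [← hv]
    ext i
    simp [Matrix.scalar_apply, Matrix.mulVec_diagonal]
  have h3 : ∀ n : ℕ, (A ^ n) *ᵥ v = z ^ n • v := by
    intro n
    induction n with
    | zero => rw [pow_zero, pow_zero, Matrix.one_mulVec, one_smul]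
    | succ n ih => rw [pow_succ, ← Matrix.mulVec_mulVec, h2, Matrix.mulVec_smul, ih, smul_smul, pow_succ, mul_comm]
  have h4 := h3 N
  rw [hA, Matrix.one_mulVec] at h4
  have h5 : z ^ N = 1 := by
    obtain ⟨i, hi⟩ := Function.ne_iff.1 hv0
    have h6 := congrFun h4 i
    rw [Pi.smul_apply, smul_eq_mul] at h6
    have hi' : v i ≠ 0 := hi
    exact mul_right_cancel₀ hi' (by rw [← h6, one_mul])
  exact Complex.norm_eq_one_of_pow_eq_one h5 hN.ne'

theorem norm_det_le {l N : ℕ} (hN : 0 < N) {A : Matrix (Fin l) (Fin l) ℂ} (hA : A ^ N = 1) (q : ℕ) :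
    ‖(Matrix.scalar (Fin l) (q : ℂ) - A).det‖ ≤ ((q : ℝ) + 1) ^ l := by
  rw [← Matrix.eval_charpoly]
  have hs : A.charpoly.Splits := IsAlgClosed.splits _
  rw [hs.eval_eq_prod_roots_of_monic A.charpoly_monic]
  have hc : Multiset.card A.charpoly.roots = l := by
    rw [← hs.natDegree_eq_card_roots, Matrix.charpoly_natDegree_eq_dim, Fintype.card_fin]
  have key : ∀ S : Multiset ℂ, (∀ z ∈ S, ‖z‖ = 1) →
      ‖(S.map fun a => (q : ℂ) - a).prod‖ ≤ ((q : ℝ) + 1) ^ Multiset.card S := by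
    intro S
    induction S using Multiset.induction_on with
    | empty => intro _; simp
    | cons a S ih =>
      intro h
      rw [Multiset.map_cons, Multiset.prod_cons, norm_mul, Multiset.card_cons, pow_succ, mul_comm]
      refine mul_le_mul (ih fun z hz => h z (Multiset.mem_cons_of_mem hz)) ?_ (norm_nonneg _) (by positivity)
      refine (norm_sub_le _ _).trans ?_
      rw [h a (Multiset.mem_cons_self _ _)]
      simp
  have h1 := key A.charpoly.roots fun z hz => norm_root hN hA (Polynomial.isRoot_of_mem_roots hz)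
  rwa [hc] at h1

end Mat

/-- **`|det (θ - q)| ≤ (q + 1) ^ l`** for a lattice endomorphism of finite order -/
theorem det_le {l : ℕ} (th : (Fin l → ℤ) →+ (Fin l → ℤ)) {N : ℕ} (hN : 0 < N) (h : ∀ x, th^[N] x = x) (q : ℕ) :
    (LinearMap.det (gq th q)).natAbs ≤ (q + 1) ^ l := by
  classical
  set B : Matrix (Fin l) (Fin l) ℤ := LinearMap.toMatrix' th.toIntLinearMap with hB
  have hpow : ∀ n : ℕ, LinearMap.toMatrix' (th.toIntLinearMap ^ n) = B ^ n := by
    intro n
    induction n with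
    | zero => rw [pow_zero, pow_zero]; exact LinearMap.toMatrix'_one
    | succ n ih => rw [pow_succ, pow_succ, LinearMap.toMatrix'_mul, ih]
  have hBN : B ^ N = 1 := by
    rw [← hpow]
    have h1 : th.toIntLinearMap ^ N = 1 := by
      refine LinearMap.ext fun x => ?_
      rw [Module.End.pow_apply]
      exact h x
    rw [h1]
    exact LinearMap.toMatrix'_one
  set A : Matrix (Fin l) (Fin l) ℂ := B.map (Int.castRingHom ℂ) with hA
  have hAN : A ^ N = 1 := by
    rw [hA]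
    have h1 := map_pow (Int.castRingHom ℂ).mapMatrix B N
    rw [hBN, map_one] at h1
    exact h1.symm
  have h1 := norm_det_le hN hAN q
  have h2 : LinearMap.det (gq th q) = (B - Matrix.scalar (Fin l) (q : ℤ)).det := by
    rw [← LinearMap.det_toMatrix']
    congr 1
    ext i j
    rw [LinearMap.toMatrix'_apply, Matrix.sub_apply, hB, LinearMap.toMatrix'_apply, gq_apply, Pi.sub_apply,
      Pi.smul_apply, smul_eq_mul, Matrix.scalar_apply, Matrix.diagonal_apply, Pi.single_apply]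
    by_cases hij : i = j
    · rw [if_pos hij, if_pos hij, mul_one]; rfl
    · rw [if_neg hij, if_neg hij, mul_zero]; rfl
  have h3 : (((LinearMap.det (gq th q)) : ℤ) : ℂ) = (A - Matrix.scalar (Fin l) (q : ℂ)).det := by
    rw [h2]
    have h4 := RingHom.map_det (Int.castRingHom ℂ) (B - Matrix.scalar (Fin l) (q : ℤ))
    rw [map_sub] at h4
    rw [← eq_intCast (Int.castRingHom ℂ), h4]
    congr 2
    ext i j
    simp
  have h5 : ‖(A - Matrix.scalar (Fin l) (q : ℂ)).det‖ = ‖(Matrix.scalar (Fin l) (q : ℂ) - A).det‖ := by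
    rw [← neg_sub, Matrix.det_neg, norm_mul, norm_pow, norm_neg, norm_one, one_pow, one_mul]
  have h6 : (((LinearMap.det (gq th q)).natAbs : ℕ) : ℝ) ≤ (((q + 1) ^ l : ℕ) : ℝ) := by
    have h7 : (((LinearMap.det (gq th q)).natAbs : ℕ) : ℝ) = ‖(((LinearMap.det (gq th q)) : ℤ) : ℂ)‖ := by
      rw [Complex.norm_intCast, Nat.cast_natAbs, Int.cast_abs]
    rw [h7, h3, h5]
    push_cast
    exact h1
  exact_mod_cast h6

section Val

variable {D : ChevalleyDatum} {l : ℕ} {M : CoxeterMatrix (Fin l)} (hp : IsType D l M) {W : Type*} [Group W]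
  (cs : CoxeterSystem M W)

include hp

/-- `θ = w` has finite order -/
theorem theta_period (w : W) : ∃ N, 0 < N ∧ ∀ x, (theta hp cs w (AddEquiv.refl _))^[N] x = x := by
  have := finite_W hp cs
  refine ⟨orderOf w, orderOf_pos w, fun x => ?_⟩
  have h1 : ∀ n : ℕ, (theta hp cs w (AddEquiv.refl _))^[n] x = rep cs hp.isCartan (w ^ n) x := by
    intro n
    induction n with
    | zero => simp
    | succ n ih => rw [Function.iterate_succ_apply', ih, theta_apply, pow_succ', rep_mul_apply]; rfl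
  rw [h1, pow_orderOf_eq_one, map_one]
  rfl

theorem finite_psi {s : ℕ} (f : (Fin l → ℤ) →+ ZMod s) : (psi cs hp.isCartan f).Finite := by
  have := finite_W hp cs
  exact (RGD.finite_roots (cs := cs) (h := hp.isCartan)).subset fun a ha => ha.1

theorem psiN_le {s : ℕ} (f : (Fin l → ℤ) →+ ZMod s) (v : W) :
    (psiN cs hp.isCartan f v).ncard ≤ (psi cs hp.isCartan f).ncard :=
  Set.ncard_le_ncard (fun _ ha => ⟨ha.1, ha.2.1, ha.2.2.1⟩) (finite_psi hp cs f)

/-- the crude value of the formula -/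
theorem val_le {q : ℕ} (hq : 0 < q) {s : ℕ} (f : (Fin l → ℤ) →+ ZMod s) (w : W) (Cw : Finset W) :
    val hp cs (AddEquiv.refl _) q f w Cw ≤ (q + 1) ^ l * (q ^ (2 * (psi cs hp.isCartan f).ncard) * Cw.card) := by
  unfold val
  obtain ⟨N, hN, h⟩ := theta_period hp cs w
  refine Nat.mul_le_mul (det_le _ hN h q) ?_
  rw [two_mul, pow_add, mul_assoc]
  refine Nat.mul_le_mul_left _ ?_
  rw [mul_comm, ← smul_eq_mul]
  refine Finset.sum_le_card_nsmul _ _ _ fun v _ => ?_
  exact Nat.pow_le_pow_right hq (psiN_le hp cs f v)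

end Val

end Cfsg.Agent.H27.TS.Det

private theorem dce_46798bedb172 : _root_.True := by
  try have : _root_.True := by simp only [_root_.Cfsg.Agent.H129.TorusMain.theta.congr_simp]
  exact _root_.True.intro
end
end
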