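import Cfsg.Agent.H720.RowsNeg_m3
import Cfsg.Agent.H461.E2.Cent
import Cfsg.Agent.H129.TorusMain
import Mathlib.LinearAlgebra.FreeModule.Finite.CardQuotient
import Cfsg.Agent.H129.TorusUntw
import Cfsg.Agent.H931.KC.Alcove
import Cfsg.Agent.H209.EPX.Defs_m3
import Cfsg.Agent.FastGrp
import Cfsg.Agent.Prune
set_option linter.all false

section
prune_inst 0x7ff8faf8abb8afffdfff7ffff6facffc3990dfffe6dff943ffe0e3ff0b9f03000be5fb8f0df090fe1fd6e01c10b87813fb7eefffe86bdc7ffffd5ff41ffbee0fb5e7350971d59c340fbc0fff03f07f8a7f3fffffffffffffffffffffffffffbeffbdffffffff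

-- part: H972/CS/Main
section
prune_inst 0x3000000002000000000000003c0690000002000b80008040020402000900000107000420100200320000000000000000003000000000000004000000000008800002a008a00000000e000000000000000000000000000000000000000000000000000
set_option linter.all false
open scoped Cfsg.Agent.FastGrp

-- part: H972/CS/Frame
section
/-!
# Centralisers of semisimple elements: the adjusted frame (helper972)

`Y = D.group k`, `k` algebraically closed, `σ` a Frobenius frame automorphism of `Y`.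

* `inf_eq`, `mem_peel` : unique factorisation in `Y`;
* `mem_cent` : the normal form of an element commuting with `t ∈ T`;
* `exists_frame` : every `p'`-element `x` of `Y^σ` is `z t z⁻¹`, `z⁻¹ σ(z)` a representative of `w`, `w g` preserves
  the positive roots of `t`.
-/

set_option autoImplicit false
set_option linter.unusedSectionVars false

namespace Cfsg.Agent.H972.CS

open CoxeterSystem Cfsg Cfsg.Lie Cfsg.Lie.ChevalleyDatum
open Cfsg.Agent.ChevalleyStructure Cfsg.Agent.ChevalleyStructure.Elts Cfsg.Agent.ChevalleyStructure.CoxeterGeom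
  Cfsg.Agent.ChevalleyStructure.CoxeterGeomTypes Cfsg.Agent.ChevalleyStructure.NPerm
open Cfsg.Agent.Tits.Roots Cfsg.Agent.Tits.Core Cfsg.Agent.Nodes Cfsg.Agent.Nodes.Reps Cfsg.Agent.Nodes.BNOf
  Cfsg.Agent.Nodes.RGDChev Cfsg.Agent.Nodes.Bruhat Cfsg.Agent.Nodes.SubComb Cfsg.Agent.Nodes.Coroot
open Cfsg.Agent.KFacts.RgdField Cfsg.Agent.KFacts.RgdChevCoord Cfsg.Agent.BpExc.TorCent Cfsg.Agent.BpExc.TorChev
open Cfsg.Agent.GpExc.Field Cfsg.Agent.BpExc.Tow Cfsg.Agent.BpExc.TowChev Cfsg.Agent.BpExc.Fr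
  Cfsg.Agent.BpExc.LangFr Cfsg.Agent.LangThm Cfsg.Agent.BpExc Cfsg.Agent.H129.TorusChar Cfsg.Agent.H129.TorusCent
  Cfsg.Agent.H129.TorusTw Cfsg.Agent.H129.TorusMain Cfsg.Agent.H720.TorusReal

universe u

/-! ### unique factorisation in the union -/

section Lim

variable {I W Y : Type*} [Fintype I] [DecidableEq I] [Group W] [Group Y] {M : CoxeterMatrix I}
  {cs : CoxeterSystem M W} {A : I → I → ℤ} {h : IsCartan M A} {p : ℕ}
variable {J : Type*} [Preorder J] {T : J → Subgroup Y} {n : I → Y} {X : J → (I → ℤ) → Subgroup Y}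
  (H : Tow cs h p T n X)

include H

end Lim

/-! ### the adjusted frame -/

section Frame

variable {D : ChevalleyDatum} {l : ℕ} {M : CoxeterMatrix (Fin l)} (hp : IsType D l M) {k : Type u} [Field k]
  {W : Type*} [Group W] (cs : CoxeterSystem M W) {p e : ℕ} [Fact p.Prime] [CharP k p] {σ : MulAut ↥(D.group k)}
  {g : (Fin l → ℤ) ≃+ (Fin l → ℤ)}

/-- The group generated by the root groups commuting with `t`. -/
noncomputable abbrev MMt (t : ↥(D.group k)) : Subgroup ↥(D.group k) := _root_.Cfsg.Agent.BpExc.TorCent.MM cs hp.isCartan (XX D l k) (ch hp) t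

theorem T_norm_MMt (hk : LocFin k) (p : ℕ) [Fact p.Prime] [CharP k p] (t : ↥(D.group k)) :
    TT D k ≤ Subgroup.normalizer (MMt hp cs t : Set ↥(D.group k)) := by
  have H := tow hp cs hk p
  have h1 := H.T_le_normalizer (S := Sx cs hp.isCartan (ch hp) t) (fun _ ha => ha.1)
  rw [TL_eq hp hk, XL_eq hp hk] at h1
  exact h1

theorem MT_comm (hk : LocFin k) (p : ℕ) [Fact p.Prime] [CharP k p] {t : ↥(D.group k)} (ht : t ∈ TT D k)
    {y : ↥(D.group k)} (hy : y ∈ MMt hp cs t ⊔ TT D k) : y * t = t * y := by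
  have C := coordsL hp cs hk p
  have h1 : MMt hp cs t ⊔ TT D k ≤ Subgroup.centralizer {t} := by
    refine sup_le (MM_le_centralizer C ht) fun s hs => ?_
    exact Subgroup.mem_centralizer_singleton_iff.2 (_root_.Cfsg.Agent.H720.TorusReal.TT_comm hp hs ht)
  exact Subgroup.mem_centralizer_singleton_iff.1 (h1 hy)

/-- **Lang's theorem for `MM t · T`.** -/
theorem lang_MT [IsAlgClosed k] [Finite W] (hk : LocFin k) (he : 0 < e) (hσ : IsFrob p e σ)
    (F : Fr cs hp.isCartan (TT D k) (XX D l k) σ g) {d' : ℕ} {B' : Fin l → Fin l → ℤ} (hB : InvC D l d' B')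
    (hd' : d' ≠ 0) {t : ↥(D.group k)} (hS : ∀ a ∈ Sx cs hp.isCartan (ch hp) t, g a ∈ Sx cs hp.isCartan (ch hp) t)
    {m : ↥(D.group k)} (hm : m ∈ MMt hp cs t ⊔ TT D k) : ∃ y ∈ MMt hp cs t ⊔ TT D k, m = y⁻¹ * σ y := by
  have hnorm := T_norm_MMt hp cs hk p t
  have h1 : m ∈ ((MMt hp cs t ⊔ TT D k : Subgroup ↥(D.group k)) : Set ↥(D.group k)) := hm
  rw [Subgroup.coe_mul_of_right_le_normalizer_left _ _ hnorm, Set.mem_mul] at h1
  obtain ⟨m₁, hm₁, s, hs, rfl⟩ := h1
  obtain ⟨s', hs', e1⟩ := torus_lang hp cs he hσ F hB hd' (c := s⁻¹) (inv_mem hs)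
  have hσs : σ s' ∈ TT D k := (F.tor s').2 hs'
  have e2 : s = s'⁻¹ * σ s' := by
    have h2 : s * s' = σ s' := by rw [e1, mul_inv_cancel_left, ← e1]
    rw [← h2, _root_.Cfsg.Agent.H720.TorusReal.TT_comm hp hs hs']; group
  have hm₂ : s' * m₁ * s'⁻¹ ∈ MMt hp cs t := (Subgroup.mem_normalizer_iff.1 (hnorm hs') m₁).1 hm₁
  obtain ⟨y₁, hy₁, e3⟩ := lang_fr hp cs he hσ F (S := Sx cs hp.isCartan (ch hp) t) (fun _ ha => ha.1) hS hm₂
  refine ⟨y₁ * s', mul_mem (Subgroup.mem_sup_left hy₁) (Subgroup.mem_sup_right hs'), ?_⟩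
  rw [map_mul, mul_inv_rev]
  have e4 : m₁ = s'⁻¹ * (y₁⁻¹ * σ y₁) * s' := by rw [← e3]; group
  rw [e4]
  calc s'⁻¹ * (y₁⁻¹ * σ y₁) * s' * s = s'⁻¹ * (y₁⁻¹ * σ y₁) * s' * (s'⁻¹ * σ s') := by rw [← e2]
    _ = _ := by group

/-- the reflections of `Sx t` have representatives in `MM t · T` -/
theorem exists_refl_MT [Finite W] (hk : LocFin k) (p : ℕ) [Fact p.Prime] [CharP k p]
    (hN : NSys M (TT D k) (nc hp k)) {t : ↥(D.group k)} (ht : t ∈ TT D k) {a : Fin l → ℤ}
    (ha : a ∈ Sx cs hp.isCartan (ch hp) t) :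
    ∃ w i, a = rep cs hp.isCartan w (sr i) ∧ ∃ m ∈ MMt hp cs t ⊔ TT D k, Rp cs hN (rfl' cs w i) m := by
  have H := tow hp cs hk p
  have C := coordsL hp cs hk p
  obtain ⟨⟨w, i, hw⟩, h2⟩ := id ha
  refine ⟨w, i, hw, ?_⟩
  obtain ⟨j⟩ := H.ne
  obtain ⟨m, hm, hm'⟩ := exists_rfl (H.rgd j) w i
  have hm1 := H.rp_up hm'
  refine ⟨m, ?_, ?_⟩
  · have h3 : Tj hp j ≤ TT D k := by
      rw [← TL_eq hp hk]; exact le_TL j
    have h4 : ∀ b, Xj hp j b ≤ XX D l k b := fun b => by
      rw [← XL_eq hp hk]; exact le_XL j b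
    have hA : -a ∈ Sx cs hp.isCartan (ch hp) t := by
      refine ⟨ha.1.neg, ?_⟩
      rw [← cX_root hp cs ht ha.1.neg, (isMC_cX hp ht).neg, cX_root hp cs ht ha.1, h2, inv_one]
    rw [← hw] at hm
    have h5 : Tj hp j ⊔ (Xj hp j a ⊔ Xj hp j (-a)) ≤ MMt hp cs t ⊔ TT D k :=
      sup_le (le_trans h3 le_sup_right) (sup_le
        (le_trans (h4 a) (le_trans (RGD.le_Sup (S := Sx cs hp.isCartan (ch hp) t) ha) le_sup_left))
        (le_trans (h4 _) (le_trans (RGD.le_Sup (S := Sx cs hp.isCartan (ch hp) t) hA) le_sup_left)))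
    exact h5 hm
  · have key : ∀ (T : Subgroup ↥(D.group k)) (h1 : NSys M T (nc hp k)) (h2 : T = TT D k),
        Rp cs h1 (rfl' cs w i) m → Rp cs hN (rfl' cs w i) m := by
      intro T h1 h2 h3
      subst h2
      exact h3
    exact key _ _ (TL_eq hp hk) hm1

/-- **The adjusted frame.** -/
theorem frame_of [IsAlgClosed k] [Finite W] (hk : LocFin k) (he : 0 < e) (hσ : IsFrob p e σ)
    (F : Fr cs hp.isCartan (TT D k) (XX D l k) σ g) {d' : ℕ} {B' : Fin l → Fin l → ℤ} (hB : InvC D l d' B')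
    (hd' : d' ≠ 0) (hN : NSys M (TT D k) (nc hp k)) {x z₀ t : ↥(D.group k)} (hx : σ x = x) (ht : t ∈ TT D k)
    (e0 : x = z₀ * t * z₀⁻¹) :
    ∃ (z n : ↥(D.group k)) (w : W), x = z * t * z⁻¹ ∧ n = z⁻¹ * σ z ∧ Rp cs hN w n ∧ n * σ t * n⁻¹ = t ∧
      ∀ a ∈ Sx cs hp.isCartan (ch hp) t, 0 ≤ a → 0 ≤ theta hp cs w g a := by
  have H := tow hp cs hk p
  have C := coordsL hp cs hk p
  have C' := C
  rw [← TL_eq hp hk, ← XL_eq hp hk] at C'
  have hσt : σ t ∈ TT D k := (F.tor t).2 ht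
  have ht' : t ∈ TL (Tj hp (k := k)) := by rw [TL_eq hp hk]; exact ht
  have hσt' : σ t ∈ TL (Tj hp (k := k)) := by rw [TL_eq hp hk]; exact hσt
  have hcG : z₀⁻¹ * σ z₀ ∈ GG cs hp.isCartan (TL (Tj hp (k := k))) (XL (Xj hp)) := by
    rw [GG_eq_top hp cs hk]; exact Subgroup.mem_top _
  have h1 : (z₀⁻¹ * σ z₀) * σ t = t * (z₀⁻¹ * σ z₀) := by
    have h2 : σ z₀ * σ t * (σ z₀)⁻¹ = z₀ * t * z₀⁻¹ := by
      rw [← map_inv, ← map_mul, ← map_mul, ← e0, hx, e0]
    have h3 : σ z₀ * σ t = z₀ * t * z₀⁻¹ * σ z₀ := by rw [← h2]; group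
    rw [mul_assoc, h3]; group
  obtain ⟨m, hm, w, kk, hk0, hks, hc⟩ := BpExc.Fr.exists_form H C' hσt' ht' hcG h1
  have hkN : Rp cs hN w kk := by
    have key : ∀ (T : Subgroup ↥(D.group k)) (h1 : NSys M T (nc hp k)) (h2 : T = TT D k),
        Rp cs h1 w kk → Rp cs hN w kk := by
      intro T h1 h2 h3
      subst h2
      exact h3
    exact key _ _ (TL_eq hp hk) hk0
  have hm' : m ∈ MMt hp cs t := by
    have h4 := hm
    rw [XL_eq hp hk] at h4
    exact h4
  -- the twisted frame automorphism attached to a representative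
  have hfr : ∀ {w : W} {n : ↥(D.group k)}, Rp cs hN w n → n * σ t * n⁻¹ = t →
      (∀ a, rep cs hp.isCartan w (g a) ∈ Sx cs hp.isCartan (ch hp) t ↔ a ∈ Sx cs hp.isCartan (ch hp) t) := by
    intro w n hn hnt a
    have F1 : Fr cs hp.isCartan (TT D k) (XX D l k) (MulAut.conj n * σ) (g.trans (repAut cs hp.isCartan w)) :=
      (fr_conj hp cs hk p hn).mul F
    have F1' := F1
    rw [← TL_eq hp hk, ← XL_eq hp hk] at F1'
    exact F1'.mem_Sx C' ht' hnt a
  have hkt : kk * σ t * kk⁻¹ = t := by rw [hks]; group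
  -- adjust
  let V : Subgroup W :=
    { carrier := {v | ∃ m ∈ MMt hp cs t ⊔ TT D k, Rp cs hN v m}
      one_mem' := ⟨1, one_mem _, rp_one⟩
      mul_mem' := by
        rintro a b ⟨m, hm, hm'⟩ ⟨m', hm1, hm2⟩
        exact ⟨m * m', mul_mem hm hm1, hm'.mul hm2⟩
      inv_mem' := by
        rintro a ⟨m, hm, hm'⟩
        exact ⟨m⁻¹, inv_mem hm, hm'.inv⟩ }
  have hV : ∀ a ∈ Sx cs hp.isCartan (ch hp) t, ∃ w i, a = rep cs hp.isCartan w (sr i) ∧ rfl' cs w i ∈ V :=
    fun a ha => exists_refl_MT hp cs hk p hN ht ha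
  let θ : (Fin l → ℤ) ≃+ (Fin l → ℤ) := g.trans (repAut cs hp.isCartan w)
  have hθr : ∀ a, IsRoot cs hp.isCartan (θ a) ↔ IsRoot cs hp.isCartan a :=
    ((fr_conj hp cs hk p hkN).mul F).root
  obtain ⟨v, ⟨mv, hmv, hmv'⟩, hv⟩ := BpExc.Fr.exists_adjust (cs := cs) (h := hp.isCartan)
    (Sx cs hp.isCartan (ch hp) t) V hV θ.symm (fun a ha => by
      rw [← hθr, AddEquiv.apply_symm_apply]; exact ha)
  have hvS : ∀ a, a ∈ Sx cs hp.isCartan (ch hp) t → rep cs hp.isCartan v a ∈ Sx cs hp.isCartan (ch hp) t := by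
    intro a ha
    refine ⟨ha.1.act v, ?_⟩
    have h2 := MT_comm hp cs hk p ht hmv
    have h3 : mv * t * mv⁻¹ = t := by rw [h2]; group
    rw [← cX_root hp cs ht (ha.1.act v)]
    have h4 := cX_rp hp cs hk p hmv' ht a
    rw [h3] at h4
    rw [h4, cX_root hp cs ht ha.1, ha.2]
  have hvS' : ∀ a, a ∈ Sx cs hp.isCartan (ch hp) t → rep cs hp.isCartan v⁻¹ a ∈ Sx cs hp.isCartan (ch hp) t := by
    intro a ha
    refine ⟨ha.1.act v⁻¹, ?_⟩
    have h2 := MT_comm hp cs hk p ht (inv_mem hmv)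
    have h3 : mv⁻¹ * t * mv⁻¹⁻¹ = t := by rw [h2]; group
    rw [← cX_root hp cs ht (ha.1.act v⁻¹)]
    have h4 := cX_rp hp cs hk p hmv'.inv ht a
    rw [h3] at h4
    rw [h4, cX_root hp cs ht ha.1, ha.2]
  -- the new representative
  have hkk : Rp cs hN (v⁻¹ * w) (mv⁻¹ * kk) := hmv'.inv.mul hkN
  have hkkt : mv⁻¹ * kk * σ t * (mv⁻¹ * kk)⁻¹ = t := by
    have h2 := MT_comm hp cs hk p ht (inv_mem hmv)
    calc mv⁻¹ * kk * σ t * (mv⁻¹ * kk)⁻¹ = mv⁻¹ * (kk * σ t * kk⁻¹) * mv := by group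
      _ = mv⁻¹ * t * mv := by rw [hkt]
      _ = t := by rw [h2]; group
  have hpos : ∀ a ∈ Sx cs hp.isCartan (ch hp) t, 0 ≤ a → 0 ≤ theta hp cs (v⁻¹ * w) g a := by
    intro a ha h0
    rw [theta_apply, rep_mul_apply]
    set b := rep cs hp.isCartan v⁻¹ (rep cs hp.isCartan w (g a)) with hb
    have hbS : b ∈ Sx cs hp.isCartan (ch hp) t := hvS' _ ((hfr hkN hkt a).2 ha)
    rcases hbS.1.pos_or_neg with h6 | h6
    · exact h6
    · exfalso
      have hnb : -b ∈ Sx cs hp.isCartan (ch hp) t := by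
        refine ⟨hbS.1.neg, ?_⟩
        rw [← cX_root hp cs ht hbS.1.neg, (isMC_cX hp ht).neg, cX_root hp cs ht hbS.1, hbS.2, inv_one]
      have h7 := hv (-b) hnb (neg_nonneg.2 h6)
      have h8 : θ.symm (rep cs hp.isCartan v (-b)) = -a := by
        rw [map_neg, map_neg, hb, rep_apply_inv]
        congr 1
        have h9 : θ a = rep cs hp.isCartan w (g a) := rfl
        rw [← h9, AddEquiv.symm_apply_apply]
      rw [h8] at h7
      exact ha.1.not_pos_neg h0 (neg_nonneg.1 h7)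
  have Fτ : Fr cs hp.isCartan (TT D k) (XX D l k) (MulAut.conj (mv⁻¹ * kk) * σ)
      (g.trans (repAut cs hp.isCartan (v⁻¹ * w))) := (fr_conj hp cs hk p hkk).mul F
  have hτσ : IsFrob p e (MulAut.conj (mv⁻¹ * kk) * σ) := hσ.conj_mul _
  obtain ⟨y, hy, ey⟩ := lang_MT hp cs hk he hτσ Fτ hB hd' (t := t)
    (fun a ha => (hfr hkk hkkt a).2 ha) (m := m * mv) (mul_mem (Subgroup.mem_sup_left hm') hmv)
  have hyt := MT_comm hp cs hk p ht hy
  refine ⟨z₀ * y⁻¹, mv⁻¹ * kk, v⁻¹ * w, ?_, ?_, hkk, hkkt, hpos⟩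
  · have h2 : y⁻¹ * t * y = t := by rw [mul_assoc, ← hyt]; group
    calc x = z₀ * t * z₀⁻¹ := e0
      _ = z₀ * (y⁻¹ * t * y) * z₀⁻¹ := by rw [h2]
      _ = _ := by group
  · have h2 : (MulAut.conj (mv⁻¹ * kk) * σ) y = mv⁻¹ * kk * σ y * (mv⁻¹ * kk)⁻¹ := rfl
    rw [h2] at ey
    rw [map_mul, map_inv]
    have h3 : z₀⁻¹ * σ z₀ = m * kk := hc
    calc mv⁻¹ * kk = y * (y⁻¹ * (mv⁻¹ * kk * σ y * (mv⁻¹ * kk)⁻¹)) * (mv⁻¹ * kk) * (σ y)⁻¹ := by group
      _ = y * (m * mv) * (mv⁻¹ * kk) * (σ y)⁻¹ := by rw [← ey]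
      _ = y * (m * kk) * (σ y)⁻¹ := by group
      _ = y * (z₀⁻¹ * σ z₀) * (σ y)⁻¹ := by rw [h3]
      _ = _ := by group

end Frame

end Cfsg.Agent.H972.CS
end

-- part: H972/CS/Count
section
/-!
# Centralisers of semisimple elements: the count (helper972)

`Y = D.group k`, `k` algebraically closed, locally finite, `τ` a Frobenius frame automorphism (lattice map `g`) fixing
`t ∈ T` and preserving the positive roots of `t`:

* `card_fixC_le` : `|C_Y(t)^τ| ≤ |T^τ| q^|Ψ+| ∑_{w ∈ C_W(t), w g = g w} q^|{a ∈ Ψ+ : w a ≤ 0}|`;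
* `card_torus_le` : `|T^τ| ≤ |det (g - q)|`.
-/

set_option autoImplicit false
set_option linter.unusedSectionVars false

namespace Cfsg.Agent.H972.CS.Count

open CoxeterSystem Cfsg Cfsg.Lie Cfsg.Lie.ChevalleyDatum
open Cfsg.Agent.ChevalleyStructure Cfsg.Agent.ChevalleyStructure.Elts Cfsg.Agent.ChevalleyStructure.CoxeterGeom
  Cfsg.Agent.ChevalleyStructure.CoxeterGeomTypes Cfsg.Agent.ChevalleyStructure.NPerm
open Cfsg.Agent.Tits.Roots Cfsg.Agent.Tits.Core Cfsg.Agent.Nodes Cfsg.Agent.Nodes.Reps Cfsg.Agent.Nodes.BNOf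
  Cfsg.Agent.Nodes.RGDChev Cfsg.Agent.Nodes.Bruhat Cfsg.Agent.Nodes.NormalForm
open Cfsg.Agent.KFacts.RgdField Cfsg.Agent.KFacts.RgdChevCoord
open Cfsg.Agent.BpExc Cfsg.Agent.BpExc.TorCent Cfsg.Agent.BpExc.TorChev Cfsg.Agent.BpExc.Tow
  Cfsg.Agent.BpExc.TowChev Cfsg.Agent.BpExc.Fr Cfsg.Agent.BpExc.Pair Cfsg.Agent.BpExc.LangFr Cfsg.Agent.GpExc.Field
  Cfsg.Agent.BpExc.NInst Cfsg.Agent.BpExc.NChev Cfsg.Agent.H461.E2.Sup Cfsg.Agent.H461.E2.Fix
  Cfsg.Agent.H461.E2.Cent Cfsg.Agent.H129.TorusChar Cfsg.Agent.H129.TorusMain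
open scoped commutatorElement

universe u v

section Lim

variable {I W Y : Type*} [Fintype I] [DecidableEq I] [Group W] [Group Y] {M : CoxeterMatrix I}
  {cs : CoxeterSystem M W} {A : I → I → ℤ} {h : IsCartan M A} {p : ℕ} {T : Subgroup Y} {n : I → Y}
  {X : (I → ℤ) → Subgroup Y} {R : RGD cs h p T n X} {t : Y} {S : Set (I → ℤ)} {τ : MulAut Y}
  {g : (I → ℤ) ≃+ (I → ℤ)} (D : Dat R t S τ g)

include D

/-- **The Bruhat form of `C_Y(t)^τ`, with the root sets.** -/
theorem exists_form' [Finite W] {c : Y} (hc : c ∈ fixC τ t) :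
    ∃ w, (∀ a, IsRoot cs h a → rep cs h w (g a) = g (rep cs h w a)) ∧
      ∃ u ∈ RGD.Sup X (SP S), u ∈ fixC τ t ∧ ∃ k ∈ fixC τ t, Rp cs R.nsys w k ∧
      ∃ v ∈ RGD.Sup X (NW cs h w ∩ S), v ∈ fixC τ t ∧ c = u * k * v := by
  obtain ⟨w, hw⟩ := (mem_GG R).1 (D.le hc)
  obtain ⟨u, hu, k, hk, v, hv, rfl⟩ := Cfsg.Agent.Nodes.NormalForm.exists_normal_form R hw
  obtain ⟨hτ, hct⟩ := mem_fixC.1 hc
  obtain ⟨h1, h2, h3⟩ := centralizer_form R (S := {t}) (Set.singleton_subset_iff.2 D.mem) hu hk hv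
    (Subgroup.mem_centralizer_singleton_iff.2 hct)
  have hu' : u ∈ RGD.Sup X (SP S) := by
    have h4 : u ∈ RGD.Sup (fun x => X x ⊓ Subgroup.centralizer {t}) (RGD.Pos cs h) := by
      rw [← centralizer_U R (Set.singleton_subset_iff.2 D.mem)]
      exact ⟨hu, h1⟩
    exact RGD.Sup_mono (S := RGD.Pos cs h ∩ S) (S' := SP S) (fun a ha => ⟨ha.2, ha.1.2⟩)
      (D.sup_cent _ (fun a ha => ha.1) h4)
  have hv' : v ∈ RGD.Sup X (NW cs h w ∩ S) := by
    refine D.sup_cent _ (fun a ha => ha.1) ?_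
    rw [NW_eq] at hv ⊢
    exact centralizer_PW R _ (Set.singleton_subset_iff.2 D.mem) hv h3
  obtain ⟨w', hk'⟩ := D.rp w k hk
  have hτv : τ v ∈ RGD.Sup X (NW cs h w') := by
    have h4 : RGD.Sup X (NW cs h w ∩ S) ≤ (RGD.Sup X (NW cs h w')).comap τ.toMonoidHom := by
      refine RGD.Sup_le fun a ha y hy => ?_
      refine RGD.le_Sup (S := NW cs h w') ⟨(D.fr.root a).2 ha.1.1, D.pos a ha.2 ha.1.2.1, ?_⟩
        ((D.fr.map a ha.1.1 y).2 hy)
      rw [D.rep_g hk hk' ha.1.1]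
      exact D.g_neg (D.act hk h2 ha.2) ha.1.2.2
    exact h4 hv'
  have e : τ u * τ k * τ v = u * k * v := by rw [← map_mul, ← map_mul]; exact hτ
  have hτu := D.U_le (D.map_U hu')
  have hB : ∀ {w : W} {v : Y}, v ∈ RGD.Sup X (NW cs h w) → v ∈ RGD.B cs h T X := fun hv =>
    RGD.U_le_B (RGD.Sup_mono (S := NW cs h _) (S' := RGD.Pos cs h) (fun x hx => ⟨hx.1, hx.2.1⟩) hv)
  have c1 : Cell R.nsys cs h X w (u * k * v) := ⟨u, RGD.U_le_B hu, k, hk, v, hB hv, rfl⟩
  have c2 : Cell R.nsys cs h X w' (u * k * v) := ⟨τ u, RGD.U_le_B hτu, τ k, hk', τ v, hB hτv, e.symm⟩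
  have hw : w = w' := Cell.unique R c1 c2
  subst hw
  obtain ⟨e1, e2, e3⟩ := Cfsg.Agent.Nodes.NormalForm.normal_form_unique R hτu hu hk' hk hτv hv e
  have hfu : u ∈ fixC τ t := mem_fixC.2 ⟨e1, Subgroup.mem_centralizer_singleton_iff.1 h1⟩
  have hfk : k ∈ fixC τ t := mem_fixC.2 ⟨e2, Subgroup.mem_centralizer_singleton_iff.1 h2⟩
  have hfv : v ∈ fixC τ t := mem_fixC.2 ⟨e3, Subgroup.mem_centralizer_singleton_iff.1 h3⟩
  exact ⟨w, fun a ha => D.rep_g hk hk' ha, u, hu', hfu, k, hfk, hk, v, hv', hfv, rfl⟩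

end Lim

section

variable {D : ChevalleyDatum} {l : ℕ} {M : CoxeterMatrix (Fin l)} (hp : IsType D l M) {k : Type u} [Field k]
  {W : Type*} [Group W] (cs : CoxeterSystem M W)

/-- a level carrying all data -/
theorem exists_dat [IsAlgClosed k] (hk : LocFin k) {r e : ℕ} [Fact r.Prime] [CharP k r]
    {t : ↥(D.group k)} (ht : t ∈ TT D k) (he : 0 < e) {τ : MulAut ↥(D.group k)}
    (hτ : IsFrob r e τ) {g : (Fin l → ℤ) ≃+ (Fin l → ℤ)} (F : Fr cs hp.isCartan (TT D k) (XX D l k) τ g)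
    (hτt : τ t = t) (hpos : ∀ a ∈ Sx cs hp.isCartan (ch hp) t, 0 ≤ a → 0 ≤ g a) [Finite ↥(fixC τ t)] :
    ∃ E : Lev k, Dat ((tow (k := k) hp cs hk r).rgd E) t (Sx cs hp.isCartan (ch hp) t) τ g := by
  have := finite_W hp cs
  have H := tow (k := k) hp cs hk r
  have C := coordsL (k := k) hp cs hk r
  have hA := chAddL (k := k) hp cs hk r
  have hG := GG_eq_top (k := k) hp cs hk
  have hTL := TL_eq (k := k) hp hk
  have hXL := XL_eq (k := k) hp hk
  have F' : Fr cs hp.isCartan (TL (Tj hp (k := k))) (XL (Xj hp (k := k))) τ g := by rw [hTL, hXL]; exact F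
  have hsep : ∀ a, IsRoot cs hp.isCartan a → ∃ s ∈ TL (Tj hp (k := k)), ∀ u ∈ XL (Xj hp (k := k)) a,
      u * s = s * u → u = 1 := by
    rw [hTL, hXL]
    exact fun a ha => sep hp cs hk r ha
  -- the level
  obtain ⟨E1, hE1⟩ := HX.fr_level hp cs hk hτ F
  obtain ⟨E2, hE2⟩ := HX.exists_fixed_level hp cs hk he hτ F
  obtain ⟨E3, hE3⟩ := exists_TT hp hk ht
  obtain ⟨E4, hE4⟩ := exists_level_finite hp hk (S := (fixC τ t : Set ↥(D.group k))) (Set.toFinite _)
  obtain ⟨E5, a1, a2⟩ := dir_lev hk E1 E2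
  obtain ⟨E6, a3, a4⟩ := dir_lev hk E3 E4
  obtain ⟨E, b1, b2⟩ := dir_lev hk E5 E6
  have FE := hE1 E (a1.trans b1)
  have hX : ∀ a, Xj hp E a ≤ XX D l k a := fun a => by rw [← hXL]; exact le_XL E a
  have hT : Tj hp E ≤ TT D k := by rw [← hTL]; exact le_TL E
  obtain ⟨t', ht', htt⟩ := hE3 E (a3.trans b2)
  have htE : t ∈ Tj hp E := ⟨t', ht', htt⟩
  exact ⟨E, {
      mem := htE
      root := fun a ha => ha.1
      neg := fun a ha => chi_neg C ht hA ha
      cent := fun a ha => (hX a).trans (X_le_centralizer C ht ha)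
      of_cent := fun a ha u hu hu1 hc => mem_Sx_of_centralizer C ht ha (hX a hu) hu1 hc
      fr := FE
      fix := hτt
      pos := hpos
      rp := fun w kk hkk => by
        obtain ⟨w', hw'⟩ := rp_fr H hG hsep F' (H.rp_up hkk)
        obtain ⟨k0, h0, h0'⟩ := H.exists_rp w'
        have h1 : k0⁻¹ * τ kk ∈ TT D k := by
          rw [← hTL]
          exact h0'.unique hw'
        have h2 : k0⁻¹ * τ kk ∈ (emb hp.inList E.1.subtype).range := by
          rw [← GGj_eq hp cs]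
          refine mul_mem (inv_mem ?_) (fr_GG FE ?_)
          · exact (mem_GG (H.rgd E)).2 ⟨w', cell_of_rp (h0 E)⟩
          · exact (mem_GG (H.rgd E)).2 ⟨w, cell_of_rp hkk⟩
        have h3 : k0⁻¹ * τ kk ∈ Tj hp E := (HX.mem_Tj hp cs hk r).2 ⟨h1, h2⟩
        have e : τ kk = k0 * (k0⁻¹ * τ kk) := by group
        exact ⟨w', by rw [e]; exact (h0 E).mul_mem_right h3⟩
      comm := fun x hx y hy hxy hxy' a ha b hb => by
        have h1 := CommZ.comm_mem_Zj hp cs E hx.1 hy.1 hxy hxy' ha hb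
        refine RGD.Sup_mono (S := CommZ.combZ cs hp x y) ?_ h1
        rintro z ⟨hz, i, j, hi, hj, e⟩
        obtain ⟨φ, h0, hadd, hφ⟩ := hA t ht
        have hn : ∀ (i : ℕ) (x : Fin l → ℤ), φ (i • x) = φ x ^ i := by
          intro i x
          induction i with
          | zero => rw [zero_smul, pow_zero, h0]
          | succ i ih => rw [succ_nsmul, hadd, ih, pow_succ]
        refine ⟨⟨hz, ?_⟩, i, j, hi, hj, e⟩
        rw [hφ z hz, e, hadd, hn, hn, ← hφ x hx.1, ← hφ y hy.1, hx.2, hy.2, one_pow, one_pow, one_mul]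
      fixed := fun a ha => hE2 E (a2.trans b1) a ha.1
      le := fun y hy => by
        rw [GGj_eq hp cs]
        exact hE4 E (a4.trans b2) hy }⟩

/-- the rational points of the torus -/
abbrev TF (D : ChevalleyDatum) (k : Type u) [Field k] (τ : MulAut ↥(D.group k)) : Subgroup ↥(D.group k) :=
  TT D k ⊓ fixedSubgroup τ

/-- **The order of a centraliser.** -/
theorem card_fixC_le [IsAlgClosed k] (hk : LocFin k) {r e : ℕ} [Fact r.Prime] [CharP k r]
    {t : ↥(D.group k)} (ht : t ∈ TT D k) (he : 0 < e) {τ : MulAut ↥(D.group k)}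
    (hτ : IsFrob r e τ) {g : (Fin l → ℤ) ≃+ (Fin l → ℤ)} (F : Fr cs hp.isCartan (TT D k) (XX D l k) τ g)
    (hτt : τ t = t) (hpos : ∀ a ∈ Sx cs hp.isCartan (ch hp) t, 0 ≤ a → 0 ≤ g a) [Finite ↥(fixC τ t)]
    (Cw : Finset W) (hCw : ∀ w, (∀ a, IsRoot cs hp.isCartan a → ch hp (rep cs hp.isCartan w a) t = ch hp a t) →
      (∀ a, IsRoot cs hp.isCartan a → rep cs hp.isCartan w (g a) = g (rep cs hp.isCartan w a)) → w ∈ Cw) :
    Nat.card ↥(fixC τ t) ≤ Nat.card ↥(TF D k τ) * ((r ^ e) ^ (SP (Sx cs hp.isCartan (ch hp) t)).ncard *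
      ∑ w ∈ Cw, (r ^ e) ^ (NW cs hp.isCartan w ∩ Sx cs hp.isCartan (ch hp) t).ncard) := by
  classical
  have := finite_W hp cs
  have H := tow (k := k) hp cs hk r
  have C := coordsL (k := k) hp cs hk r
  have hTL := TL_eq (k := k) hp hk
  have hXL := XL_eq (k := k) hp hk
  have C' : Coords cs hp.isCartan (TL (Tj hp (k := k))) (nc hp k) (XL (Xj hp (k := k))) (xc hp) (ch hp) := by
    rw [hTL, hXL]; exact C
  have ht' : t ∈ TL (Tj hp (k := k)) := by rw [hTL]; exact ht
  set S := Sx cs hp.isCartan (ch hp) t with hS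
  obtain ⟨E, Dt⟩ := exists_dat hp cs hk ht he hτ F hτt hpos
  have hT : Tj hp E ≤ TT D k := by rw [← hTL]; exact le_TL E
  have hSup : ∀ (S' : Set (Fin l → ℤ)) {y : ↥(D.group k)}, y ∈ RGD.Sup (Xj hp E) S' → y ∈ RGD.Sup (XX D l k) S' := by
    intro S' y hy
    have h1 := Sup_le_SupL E S' hy
    rwa [hXL] at h1
  -- the set of the Weyl group elements
  let CW : Set W := {w | (∀ a, IsRoot cs hp.isCartan a → ch hp (rep cs hp.isCartan w a) t = ch hp a t) ∧
      (∀ a, IsRoot cs hp.isCartan a → rep cs hp.isCartan w (g a) = g (rep cs hp.isCartan w a))}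
  have hCWf : CW.Finite := Set.toFinite _
  have hgS : ∀ a, a ∈ S → g a ∈ S := fun a ha => Dt.g_mem ha
  have hform : ∀ c : ↥(fixC τ t), ∃ w ∈ CW, ∃ u : ↥(RGD.Sup (XX D l k) (SP S) ⊓ fixedSubgroup τ),
      ∃ k' : ↥(fixC τ t), Rp cs ((tow (k := k) hp cs hk r).rgd E).nsys w (k' : ↥(D.group k)) ∧
      ∃ v : ↥(RGD.Sup (XX D l k) (NW cs hp.isCartan w ∩ S) ⊓ fixedSubgroup τ),
      (c : ↥(D.group k)) = u * k' * v := by
    intro c
    obtain ⟨w, hw, u, hu, huf, k', hk'f, hk', v, hv, hvf, e⟩ := exists_form' Dt c.2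
    refine ⟨w, ⟨fun a ha => ?_, hw⟩, ⟨u, hSup _ hu, (mem_fixC.1 huf).1⟩, ⟨k', hk'f⟩, hk',
      ⟨v, hSup _ hv, (mem_fixC.1 hvf).1⟩, e⟩
    have h1 := C'.chi_rp H.nsys (H.rp_up hk') ha ht'
    have h2 : k' * t * k'⁻¹ = t := by rw [(mem_fixC.1 hk'f).2]; group
    rwa [h2] at h1
  choose fw hfw fu fk hfk fv hfv using hform
  -- representatives
  have hrep : ∀ w : W, ∃ k0 : ↥(fixC τ t), (∃ k1 : ↥(fixC τ t),
      Rp cs ((tow (k := k) hp cs hk r).rgd E).nsys w (k1 : ↥(D.group k))) →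
      Rp cs ((tow (k := k) hp cs hk r).rgd E).nsys w (k0 : ↥(D.group k)) := by
    intro w
    by_cases h1 : ∃ k1 : ↥(fixC τ t), Rp cs ((tow (k := k) hp cs hk r).rgd E).nsys w (k1 : ↥(D.group k))
    · obtain ⟨k1, hk1⟩ := h1
      exact ⟨k1, fun _ => hk1⟩
    · exact ⟨1, fun h2 => absurd h2 h1⟩
  choose k0 hk0 using hrep
  have hTf : ∀ c : ↥(fixC τ t), ((k0 (fw c))⁻¹ * fk c : ↥(fixC τ t)).1 ∈ TF D k τ := by
    intro c
    have h1 := hk0 (fw c) ⟨fk c, hfk c⟩
    refine ⟨hT (h1.unique (hfk c)), ?_⟩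
    exact (mem_fixC.1 ((k0 (fw c))⁻¹ * fk c).2).1
  -- finiteness
  have hTFfin : Finite ↥(TF D k τ) := by
    have h1 : TF D k τ ≤ fixC τ t := fun s hs => mem_fixC.2 ⟨hs.2, TT_comm hp s hs.1 t ht⟩
    exact Finite.of_injective (Subgroup.inclusion h1) (Subgroup.inclusion_injective h1)
  have hqpos : 0 < r ^ e := pow_pos (Fact.out : r.Prime).pos e
  have hcU : Nat.card ↥(RGD.Sup (XX D l k) (SP S) ⊓ fixedSubgroup τ) = (r ^ e) ^ (SP S).ncard :=
    card_fix (hp := hp) (cs := cs) hk r he hτ F (Ψ := SP S) (fun a ha => ⟨ha.1.1, ha.2⟩)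
      (zcl_Sx (r := r) hp cs hk ht) (fun a ha => ⟨hgS a ha.1, hpos a ha.1 ha.2⟩)
  have hcV : ∀ w ∈ CW, Nat.card ↥(RGD.Sup (XX D l k) (NW cs hp.isCartan w ∩ S) ⊓ fixedSubgroup τ) =
      (r ^ e) ^ (NW cs hp.isCartan w ∩ S).ncard := by
    intro w hw
    refine card_fix (hp := hp) (cs := cs) hk r he hτ F (Ψ := NW cs hp.isCartan w ∩ S)
      (fun a ha => ⟨ha.1.1, ha.1.2.1⟩) ?_ ?_
    · intro x hx y hy z hz hz'
      have h1 := zcl_Sx (r := r) hp cs hk ht x ⟨hx.2, hx.1.2.1⟩ y ⟨hy.2, hy.1.2.1⟩ z hz hz'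
      refine ⟨⟨hz, h1.2, ?_⟩, h1.1⟩
      obtain ⟨i, j, hi, hj, rfl⟩ := hz'
      rw [map_add, map_nsmul, map_nsmul]
      exact add_nonpos (nsmul_nonpos hx.1.2.2 i) (nsmul_nonpos hy.1.2.2 j)
    · rintro a ⟨⟨ha1, ha2, ha3⟩, haS⟩
      have hwa : rep cs hp.isCartan w a ∈ S := ⟨ha1.act w, by rw [hw.1 a ha1]; exact haS.2⟩
      refine ⟨⟨(F.root a).2 ha1, hpos a haS ha2, ?_⟩, hgS a haS⟩
      rw [hw.2 a ha1]
      exact Dt.g_neg hwa ha3
  have hfinU : Finite ↥(RGD.Sup (XX D l k) (SP S) ⊓ fixedSubgroup τ) :=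
    Nat.finite_of_card_ne_zero (by rw [hcU]; exact (pow_pos hqpos _).ne')
  let Cw' : Finset W := hCWf.toFinset
  have hmemCw' : ∀ w, w ∈ Cw' ↔ w ∈ CW := fun w => hCWf.mem_toFinset
  have hfinV : ∀ w : ↥Cw', Finite ↥(RGD.Sup (XX D l k) (NW cs hp.isCartan w.1 ∩ S) ⊓ fixedSubgroup τ) := fun w =>
    Nat.finite_of_card_ne_zero (by rw [hcV w.1 ((hmemCw' _).1 w.2)]; exact (pow_pos hqpos _).ne')
  -- the injection
  let f : ↥(fixC τ t) → ↥(TF D k τ) × (↥(RGD.Sup (XX D l k) (SP S) ⊓ fixedSubgroup τ) ×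
      (Σ w : ↥Cw', ↥(RGD.Sup (XX D l k) (NW cs hp.isCartan w.1 ∩ S) ⊓ fixedSubgroup τ))) := fun c =>
    (⟨_, hTf c⟩, fu c, ⟨⟨fw c, (hmemCw' _).2 (hfw c)⟩, fv c⟩)
  have hinj : Function.Injective f := by
    intro c c' hcc
    have e1 : ((k0 (fw c))⁻¹ * fk c : ↥(fixC τ t)).1 = ((k0 (fw c'))⁻¹ * fk c' : ↥(fixC τ t)).1 :=
      congrArg (fun x => (x.1 : ↥(D.group k))) hcc
    have e2 : fu c = fu c' := congrArg (fun x => x.2.1) hcc
    have e3 : fw c = fw c' := congrArg (fun x => (x.2.2.1.1 : W)) hcc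
    have e4 : ((fv c).1 : ↥(D.group k)) = (fv c').1 := congrArg (fun x => (x.2.2.2.1 : ↥(D.group k))) hcc
    apply Subtype.ext
    rw [hfv c, hfv c', e2, e4]
    have e5 : (fk c : ↥(D.group k)) = fk c' := by
      have e6 : (k0 (fw c))⁻¹ * fk c = (k0 (fw c'))⁻¹ * fk c' := Subtype.ext e1
      rw [e3] at e6
      exact congrArg Subtype.val (mul_left_cancel e6)
    rw [e5]
  have hfin2 : Finite (Σ w : ↥Cw', ↥(RGD.Sup (XX D l k) (NW cs hp.isCartan w.1 ∩ S) ⊓ fixedSubgroup τ)) :=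
    inferInstance
  refine (Nat.card_le_card_of_injective f hinj).trans ?_
  rw [Nat.card_prod, Nat.card_prod, Nat.card_sigma, hcU]
  refine Nat.mul_le_mul_left _ (Nat.mul_le_mul_left _ ?_)
  have h1 : ∑ w : ↥Cw', Nat.card ↥(RGD.Sup (XX D l k) (NW cs hp.isCartan w.1 ∩ S) ⊓ fixedSubgroup τ) =
      ∑ w : ↥Cw', (r ^ e) ^ (NW cs hp.isCartan w.1 ∩ S).ncard :=
    Finset.sum_congr rfl fun w _ => hcV w.1 ((hmemCw' _).1 w.2)
  rw [h1, Finset.sum_coe_sort Cw' (fun w => (r ^ e) ^ (NW cs hp.isCartan w ∩ S).ncard)]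
  refine Finset.sum_le_sum_of_subset fun w hw => ?_
  have h2 := (hmemCw' w).1 hw
  exact hCw w h2.1 h2.2

end

end Cfsg.Agent.H972.CS.Count
end

-- part: H972/CS/Torus
section
/-!
# The rational points of a torus (helper972)

* `card_hom_le` : a finite abelian group has at most `|A|` characters in a field;
* `card_TF_le` : `|T^τ| ≤ |det (g - q)|`, `τ` a Frobenius frame automorphism with lattice map `g`.
-/

set_option autoImplicit false
set_option linter.unusedSectionVars false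

namespace Cfsg.Agent.H972.CS.Torus

open CoxeterSystem Cfsg Cfsg.Lie Cfsg.Lie.ChevalleyDatum
open Cfsg.Agent.ChevalleyStructure Cfsg.Agent.ChevalleyStructure.Elts Cfsg.Agent.ChevalleyStructure.CoxeterGeom
  Cfsg.Agent.ChevalleyStructure.CoxeterGeomTypes Cfsg.Agent.ChevalleyStructure.NPerm
open Cfsg.Agent.Tits.Roots Cfsg.Agent.Tits.Core Cfsg.Agent.Nodes Cfsg.Agent.Nodes.Reps Cfsg.Agent.Nodes.BNOf
  Cfsg.Agent.Nodes.RGDChev
open Cfsg.Agent.KFacts.RgdField Cfsg.Agent.KFacts.RgdChevCoord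
open Cfsg.Agent.BpExc Cfsg.Agent.BpExc.TorCent Cfsg.Agent.BpExc.TorChev Cfsg.Agent.BpExc.Tow
  Cfsg.Agent.BpExc.TowChev Cfsg.Agent.BpExc.Fr Cfsg.Agent.BpExc.Pair Cfsg.Agent.BpExc.LangFr Cfsg.Agent.GpExc.Field
  Cfsg.Agent.BpExc.NInst Cfsg.Agent.BpExc.NChev Cfsg.Agent.H129.TorusChar Cfsg.Agent.H972.CS.Count

universe u v

/-- A finite abelian group has at most `|A|` characters. -/
theorem finite_hom (A : Type*) [CommGroup A] [Finite A] (K : Type*) [Field K] : Finite (A →* K) := by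
  classical
  have := Fintype.ofFinite A
  exact (linearIndependent_monoidHom A K).finite_of_isNoetherian

theorem card_hom_le (A : Type*) [CommGroup A] [Finite A] (K : Type*) [Field K] :
    Nat.card (A →* K) ≤ Nat.card A := by
  classical
  have := Fintype.ofFinite A
  have h1 := linearIndependent_monoidHom A K
  have h2 : Finite (A →* K) := finite_hom A K
  have := Fintype.ofFinite (A →* K)
  have h3 := h1.fintype_card_le_finrank
  rw [Module.finrank_fintype_fun_eq_card] at h3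
  rwa [Nat.card_eq_fintype_card, Nat.card_eq_fintype_card]

/-- the lattice map `g - q` -/
def gq {l : ℕ} (g : (Fin l → ℤ) →+ (Fin l → ℤ)) (q : ℕ) : (Fin l → ℤ) →ₗ[ℤ] (Fin l → ℤ) :=
  g.toIntLinearMap - (q : ℤ) • LinearMap.id

theorem gq_apply {l : ℕ} (g : (Fin l → ℤ) →+ (Fin l → ℤ)) (q : ℕ) (x : Fin l → ℤ) :
    gq g q x = g x - (q : ℤ) • x := rfl

section

variable {l : ℕ} {K : Type*} [Field K]

/-- the multiplicative characters with `φ (g x) = φ x ^ q` -/
def Cq (K : Type*) [Field K] {l : ℕ} (g : (Fin l → ℤ) →+ (Fin l → ℤ)) (q : ℕ) : Set ((Fin l → ℤ) → K) :=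
  {φ | IsMC φ ∧ ∀ x, φ (g x) = φ x ^ q}

theorem exists_char {g : (Fin l → ℤ) →+ (Fin l → ℤ)} {q : ℕ} {φ : (Fin l → ℤ) → K} (hφ : φ ∈ Cq K g q) :
    ∃ ψ : Multiplicative ((Fin l → ℤ) ⧸ LinearMap.range (gq g q)) →* K,
      ∀ x, ψ (Multiplicative.ofAdd (Submodule.Quotient.mk x)) = φ x := by
  obtain ⟨h1, h2⟩ := hφ
  let f : Multiplicative (Fin l → ℤ) →* Kˣ :=
    { toFun := fun x => Units.mk0 (φ x.toAdd) (h1.ne_zero _)
      map_one' := by
        apply Units.ext
        exact h1.zero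
      map_mul' := fun a b => by
        apply Units.ext
        exact h1.add _ _ }
  let f' : (Fin l → ℤ) →+ Additive Kˣ := MonoidHom.toAdditiveRight f
  have hf' : ∀ x, f' x = Additive.ofMul (Units.mk0 (φ x) (h1.ne_zero _)) := fun x => rfl
  let F : ((Fin l → ℤ) ⧸ LinearMap.range (gq g q)) →ₗ[ℤ] Additive Kˣ :=
    Submodule.liftQ (LinearMap.range (gq g q)) f'.toIntLinearMap (by
      rintro _ ⟨x, rfl⟩
      rw [LinearMap.mem_ker]
      show f' (gq g q x) = 0
      rw [hf', gq_apply]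
      have h3 : φ (g x - (q : ℤ) • x) = 1 := by
        rw [h1.sub, h2, h1.zsmul, zpow_natCast, div_self (pow_ne_zero _ (h1.ne_zero x))]
      apply Additive.toMul.injective
      apply Units.ext
      exact h3)
  let G : Multiplicative ((Fin l → ℤ) ⧸ LinearMap.range (gq g q)) →* Kˣ := AddMonoidHom.toMultiplicativeLeft F.toAddMonoidHom
  refine ⟨(Units.coeHom K).comp G, fun x => rfl⟩

theorem ncard_Cq_le {g : (Fin l → ℤ) →+ (Fin l → ℤ)} {q : ℕ} (hinj : ∀ x, g x = (q : ℤ) • x → x = 0) :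
    Nat.card ↥(Cq K g q) ≤ (LinearMap.det (gq g q)).natAbs := by
  classical
  have hi : Function.Injective (gq g q) := by
    rw [← LinearMap.ker_eq_bot, LinearMap.ker_eq_bot']
    intro x hx
    rw [gq_apply, sub_eq_zero] at hx
    exact hinj x hx
  let e := LinearEquiv.ofInjective (gq g q) hi
  have h1 := Submodule.natAbs_det_equiv (LinearMap.range (gq g q)) e
  have h2 : (LinearMap.range (gq g q)).subtype ∘ₗ AddMonoidHom.toIntLinearMap (e : (Fin l → ℤ) →+ _) = gq g q := by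
    ext x
    rfl
  rw [h2] at h1
  have h3 : (LinearMap.det (gq g q)).natAbs ≠ 0 := by
    rw [Int.natAbs_ne_zero]
    intro h0
    exact (LinearMap.bot_lt_ker_of_det_eq_zero h0).ne' (LinearMap.ker_eq_bot.2 hi)
  have h4 : Finite ((Fin l → ℤ) ⧸ LinearMap.range (gq g q)) :=
    Nat.finite_of_card_ne_zero (by rw [← h1]; exact h3)
  have h5 : Finite (Multiplicative ((Fin l → ℤ) ⧸ LinearMap.range (gq g q))) := h4
  have h6 : ∀ φ : ↥(Cq K g q), ∃ ψ : Multiplicative ((Fin l → ℤ) ⧸ LinearMap.range (gq g q)) →* K,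
      ∀ x, ψ (Multiplicative.ofAdd (Submodule.Quotient.mk x)) = φ.1 x := fun φ => exists_char φ.2
  choose Ψ hΨ using h6
  have h7 : Function.Injective Ψ := by
    intro φ φ' e
    apply Subtype.ext
    funext x
    rw [← hΨ, ← hΨ, e]
  have h8 : Finite (Multiplicative ((Fin l → ℤ) ⧸ LinearMap.range (gq g q)) →* K) := finite_hom _ K
  refine (Nat.card_le_card_of_injective Ψ h7).trans ?_
  refine (card_hom_le _ K).trans ?_
  rw [h1]
  exact le_of_eq (Nat.card_congr Multiplicative.toAdd)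

theorem finite_Cq {g : (Fin l → ℤ) →+ (Fin l → ℤ)} {q : ℕ} (hinj : ∀ x, g x = (q : ℤ) • x → x = 0) :
    Finite ↥(Cq K g q) := by
  classical
  have hi : Function.Injective (gq g q) := by
    rw [← LinearMap.ker_eq_bot, LinearMap.ker_eq_bot']
    intro x hx
    rw [gq_apply, sub_eq_zero] at hx
    exact hinj x hx
  let e := LinearEquiv.ofInjective (gq g q) hi
  have h1 := Submodule.natAbs_det_equiv (LinearMap.range (gq g q)) e
  have h2 : (LinearMap.range (gq g q)).subtype ∘ₗ AddMonoidHom.toIntLinearMap (e : (Fin l → ℤ) →+ _) = gq g q := by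
    ext x
    rfl
  rw [h2] at h1
  have h3 : (LinearMap.det (gq g q)).natAbs ≠ 0 := by
    rw [Int.natAbs_ne_zero]
    intro h0
    exact (LinearMap.bot_lt_ker_of_det_eq_zero h0).ne' (LinearMap.ker_eq_bot.2 hi)
  have h4 : Finite ((Fin l → ℤ) ⧸ LinearMap.range (gq g q)) :=
    Nat.finite_of_card_ne_zero (by rw [← h1]; exact h3)
  have h5 : Finite (Multiplicative ((Fin l → ℤ) ⧸ LinearMap.range (gq g q))) := h4
  have h6 : ∀ φ : ↥(Cq K g q), ∃ ψ : Multiplicative ((Fin l → ℤ) ⧸ LinearMap.range (gq g q)) →* K,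
      ∀ x, ψ (Multiplicative.ofAdd (Submodule.Quotient.mk x)) = φ.1 x := fun φ => exists_char φ.2
  choose Ψ hΨ using h6
  have h7 : Function.Injective Ψ := by
    intro φ φ' e
    apply Subtype.ext
    funext x
    rw [← hΨ, ← hΨ, e]
  have h8 : Finite (Multiplicative ((Fin l → ℤ) ⧸ LinearMap.range (gq g q)) →* K) := finite_hom _ K
  exact Finite.of_injective Ψ h7

end

section

variable {D : ChevalleyDatum} {l : ℕ} {M : CoxeterMatrix (Fin l)} (hp : IsType D l M) {k : Type u} [Field k]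
  {W : Type*} [Group W] (cs : CoxeterSystem M W)

/-- a frame automorphism has finite order on the lattice -/
theorem exists_period' {τ : MulAut ↥(D.group k)} {g : (Fin l → ℤ) ≃+ (Fin l → ℤ)}
    (F : Fr cs hp.isCartan (TT D k) (XX D l k) τ g) [Finite W] :
    ∃ N : ℕ, 0 < N ∧ ∀ x : Fin l → ℤ, g^[N] x = x := by
  obtain ⟨N, hN, h⟩ := exists_period F
  refine ⟨N, hN, fun x => ?_⟩
  have h1 : ∀ i, ∃ G : (Fin l → ℤ) →+ (Fin l → ℤ), ∀ x, G x = g^[i] x := by
    intro i
    induction i with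
    | zero => exact ⟨AddMonoidHom.id _, fun x => rfl⟩
    | succ i ih =>
      obtain ⟨G, hG⟩ := ih
      exact ⟨g.toAddMonoidHom.comp G, fun x => by rw [Function.iterate_succ_apply', ← hG x]; rfl⟩
  obtain ⟨G, hG⟩ := h1 N
  rw [← hG]
  rw [eq_sum_sr x, map_sum]
  refine Finset.sum_congr rfl fun i _ => ?_
  rw [map_zsmul, hG, h _ (isRoot_sr cs hp.isCartan i)]

theorem inj_of_fr {τ : MulAut ↥(D.group k)} {g : (Fin l → ℤ) ≃+ (Fin l → ℤ)}
    (F : Fr cs hp.isCartan (TT D k) (XX D l k) τ g) {q : ℕ} (hq : 1 < q) (x : Fin l → ℤ)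
    (hx : g.toAddMonoidHom x = (q : ℤ) • x) : x = 0 := by
  have := finite_W hp cs
  obtain ⟨N, hN, h⟩ := exists_period' hp cs F
  have hx' : g x = (q : ℤ) • x := hx
  have h1 : ∀ i, g^[i] x = ((q : ℤ) ^ i) • x := by
    intro i
    induction i with
    | zero => rw [Function.iterate_zero, id, pow_zero, one_smul]
    | succ i ih => rw [Function.iterate_succ_apply', ih, map_zsmul, hx', smul_smul, ← pow_succ]
  have h2 := h1 N
  rw [h x] at h2
  funext i
  have h3 := congrFun h2 i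
  rw [Pi.smul_apply, smul_eq_mul] at h3
  rw [Pi.zero_apply]
  have h4 : (1 : ℤ) < (q : ℤ) ^ N := by
    have h5 : 1 < q ^ N := Nat.one_lt_pow hN.ne' hq
    exact_mod_cast h5
  have h5 : ((q : ℤ) ^ N - 1) * x i = 0 := by linarith only [h3]
  rcases mul_eq_zero.1 h5 with h6 | h6
  · omega
  · exact h6

/-- **The order of the rational points of the torus.** -/
theorem card_TF_le [IsAlgClosed k] {r e : ℕ} [Fact r.Prime] [CharP k r] (he : 0 < e)
    {τ : MulAut ↥(D.group k)} (hτ : IsFrob r e τ) {g : (Fin l → ℤ) ≃+ (Fin l → ℤ)}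
    (F : Fr cs hp.isCartan (TT D k) (XX D l k) τ g) :
    Finite ↥(TF D k τ) ∧ Nat.card ↥(TF D k τ) ≤ (LinearMap.det (gq g.toAddMonoidHom (r ^ e))).natAbs := by
  have hq : 1 < r ^ e := Nat.one_lt_pow he.ne' (Fact.out : r.Prime).one_lt
  have hi := inj_of_fr hp cs F hq
  let f : ↥(TF D k τ) → ↥(Cq k g.toAddMonoidHom (r ^ e)) := fun s => ⟨cX hp s.1, isMC_cX hp s.2.1, fun x => by
    have h1 := cX_sigma hp cs hτ F s.2.1 x
    have h2 : τ (s : ↥(D.group k)) = s := s.2.2
    rw [h2] at h1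
    exact h1⟩
  have hf : Function.Injective f := by
    intro s s' e
    apply Subtype.ext
    refine cX_inj hp s.2.1 s'.2.1 fun i => ?_
    exact congrFun (congrArg Subtype.val e) (sr i)
  have hfin := finite_Cq (K := k) hi
  exact ⟨Finite.of_injective f hf, (Nat.card_le_card_of_injective f hf).trans (ncard_Cq_le hi)⟩

end

end Cfsg.Agent.H972.CS.Torus
end

-- part: H972/CS/Main
section
/-!
# Centralisers of elements of prime order: the formula (helper972)

`Y = D.group k`, `k` algebraically closed and locally finite of characteristic `r`, `σ` a Frobenius frame automorphism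
with lattice map `g`, `x ∈ Y^σ`, `x ^ s = 1`, `s ≠ r` prime, `x` conjugate to an element of the torus.

* `bound` : there are `f : ℤ^l →+ ZMod s` (in a given set of representatives of the `W`-orbits) and `w ∈ W`, with
  `f ∘ (w g) = q f`, `w g` preserving `Ψ+ = {a > 0 : f a = 0}`, and
  `|C(x)| ≤ |det (w g - q)| q^|Ψ+| ∑_v q^|{a ∈ Ψ+ : v a ≤ 0}|`, the sum over the `v ∈ W` with `f ∘ v = f` commuting with
  `w g`.
* `bound_setup` : the same for the groups with a `Setup`.
-/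

set_option autoImplicit false
set_option linter.unusedSectionVars false

namespace Cfsg.Agent.H972.CS.Main

open CoxeterSystem Cfsg Cfsg.Lie Cfsg.Lie.ChevalleyDatum
open Cfsg.Agent.ChevalleyStructure Cfsg.Agent.ChevalleyStructure.Elts Cfsg.Agent.ChevalleyStructure.CoxeterGeom
  Cfsg.Agent.ChevalleyStructure.CoxeterGeomTypes Cfsg.Agent.ChevalleyStructure.NPerm
open Cfsg.Agent.Tits.Roots Cfsg.Agent.Tits.Core Cfsg.Agent.Nodes Cfsg.Agent.Nodes.Reps Cfsg.Agent.Nodes.BNOf
  Cfsg.Agent.Nodes.RGDChev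
open Cfsg.Agent.KFacts.RgdField Cfsg.Agent.KFacts.RgdChevCoord
open Cfsg.Agent.BpExc Cfsg.Agent.BpExc.TorCent Cfsg.Agent.BpExc.TorChev Cfsg.Agent.BpExc.Tow
  Cfsg.Agent.BpExc.TowChev Cfsg.Agent.BpExc.Fr Cfsg.Agent.BpExc.Pair Cfsg.Agent.BpExc.LangFr Cfsg.Agent.GpExc.Field
  Cfsg.Agent.BpExc.NInst Cfsg.Agent.BpExc.NChev Cfsg.Agent.H129.TorusChar Cfsg.Agent.H129.TorusMain
  Cfsg.Agent.H129.TorusUntw Cfsg.Agent.H972.CS Cfsg.Agent.H972.CS.Count Cfsg.Agent.H972.CS.Torus

universe u v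

section

variable {D : ChevalleyDatum} {l : ℕ} {M : CoxeterMatrix (Fin l)} (hp : IsType D l M) {k : Type u} [Field k]
  {W : Type*} [Group W] (cs : CoxeterSystem M W)

/-- The additive form of an element of prime order of the torus. -/
theorem exists_add [IsAlgClosed k] {s : ℕ} (hs : s.Prime) (hsk : (s : k) ≠ 0) {t : ↥(D.group k)} (ht : t ∈ TT D k)
    (hts : t ^ s = 1) : ∃ f : (Fin l → ℤ) →+ ZMod s, ∀ x, cX hp t x = 1 ↔ f x = 0 := by
  classical
  have : Fact s.Prime := ⟨hs⟩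
  have : NeZero (s : k) := ⟨hsk⟩
  have : NeZero s := ⟨hs.ne_zero⟩
  obtain ⟨ζ, hζ⟩ := HasEnoughRootsOfUnity.exists_primitiveRoot k s
  have h1 : ∀ i : Fin l, ∃ j < s, ζ ^ j = cX hp t (sr i) := by
    intro i
    refine hζ.eq_pow_of_pow_eq_one ?_
    rw [← cX_pow hp ht, hts, cX_one]
  choose j hj hj' using h1
  let f : (Fin l → ℤ) →+ ZMod s :=
    { toFun := fun x => ∑ i, (x i : ZMod s) * (j i : ZMod s)
      map_zero' := by simp only [_root_.Pi.zero_apply, _root_.Int.cast_zero, _root_.MulZeroClass.zero_mul, _root_.Finset.sum_const_zero]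
      map_add' := fun x y => by
        rw [← Finset.sum_add_distrib]
        refine Finset.sum_congr rfl fun i _ => ?_
        rw [Pi.add_apply, Int.cast_add, add_mul] }
  have hf : ∀ i, f (sr i) = (j i : ZMod s) := by
    intro i
    show ∑ i', ((sr i : Fin l → ℤ) i' : ZMod s) * (j i' : ZMod s) = _
    rw [Finset.sum_eq_single i]
    · simp [sr]
    · intro b _ hb
      simp [sr, hb]
    · intro h; exact absurd (Finset.mem_univ i) h
  have hζ1 : ∀ n : ℕ, ζ ^ (n % s) = ζ ^ n := fun n => by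
    conv_rhs => rw [← Nat.mod_add_div n s, pow_add, pow_mul, hζ.pow_eq_one, one_pow, mul_one]
  have hψ : IsMC (fun x : Fin l → ℤ => ζ ^ (f x).val) :=
    { zero := by
        show ζ ^ (f 0).val = 1
        rw [map_zero, ZMod.val_zero, pow_zero]
      add := fun x y => by
        show ζ ^ (f (x + y)).val = ζ ^ (f x).val * ζ ^ (f y).val
        rw [map_add, ZMod.val_add, hζ1, pow_add] }
  have key : ∀ x, cX hp t x = ζ ^ (f x).val := by
    refine fun x => (isMC_cX hp ht).ext hψ (fun i => ?_) x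
    rw [hf, ZMod.val_natCast, hζ1, hj']
  refine ⟨f, fun x => ?_⟩
  rw [key, hζ.pow_eq_one_iff_dvd]
  constructor
  · intro h
    have h2 := ZMod.val_lt (f x)
    have h3 := Nat.eq_zero_of_dvd_of_lt h h2
    exact (ZMod.val_eq_zero _).1 h3
  · intro h
    rw [h, ZMod.val_zero]
    exact dvd_zero _

/-- the positive roots killed by `f` -/
def psi {A : Fin l → Fin l → ℤ} (cs : CoxeterSystem M W) (h : IsCartan M A) {s : ℕ} (f : (Fin l → ℤ) →+ ZMod s) :
    Set (Fin l → ℤ) :=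
  {a | IsRoot cs h a ∧ 0 ≤ a ∧ f a = 0}

/-- the positive roots killed by `f` made negative by `v` -/
def psiN {A : Fin l → Fin l → ℤ} (cs : CoxeterSystem M W) (h : IsCartan M A) {s : ℕ} (f : (Fin l → ℤ) →+ ZMod s)
    (v : W) : Set (Fin l → ℤ) :=
  {a | IsRoot cs h a ∧ 0 ≤ a ∧ f a = 0 ∧ rep cs h v a ≤ 0}

/-- the data attached to an element of prime order: `θ = w g`, `f ∘ θ = q f`, `θ Ψ+ ≥ 0` -/
structure Pair (cs : CoxeterSystem M W) (g : (Fin l → ℤ) ≃+ (Fin l → ℤ)) (q s : ℕ)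
    (f : (Fin l → ℤ) →+ ZMod s) (w : W) : Prop where
  mul : ∀ y, f (theta hp cs w g y) = q • f y
  pos : ∀ a, IsRoot cs hp.isCartan a → 0 ≤ a → f a = 0 → 0 ≤ theta hp cs w g a

/-- the value of the formula, over a set `Cw` of elements of `W` -/
noncomputable def val (cs : CoxeterSystem M W) (g : (Fin l → ℤ) ≃+ (Fin l → ℤ)) (q : ℕ) {s : ℕ}
    (f : (Fin l → ℤ) →+ ZMod s) (w : W) (Cw : Finset W) : ℕ :=
  (LinearMap.det (gq (theta hp cs w g) q)).natAbs * (q ^ (psi cs hp.isCartan f).ncard *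
    ∑ v ∈ Cw, q ^ (psiN cs hp.isCartan f v).ncard)

/-- `Cw` contains the elements of `W` fixing `f` and commuting with `w g` -/
def Cov (cs : CoxeterSystem M W) (g : (Fin l → ℤ) ≃+ (Fin l → ℤ)) {s : ℕ}
    (f : (Fin l → ℤ) →+ ZMod s) (w : W) (Cw : Finset W) : Prop :=
  ∀ v, (∀ y, f (rep cs hp.isCartan v y) = f y) →
    (∀ y, rep cs hp.isCartan v (theta hp cs w g y) = theta hp cs w g (rep cs hp.isCartan v y)) → v ∈ Cw

/-- every `f` is conjugate to a member of `Rf` -/
def Meets (cs : CoxeterSystem M W) {s : ℕ} (Rf : Set ((Fin l → ℤ) →+ ZMod s)) : Prop :=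
  ∀ f : (Fin l → ℤ) →+ ZMod s, ∃ v : W, f.comp (rep cs hp.isCartan v).toAddMonoidHom ∈ Rf

/-- **The formula.** -/
theorem bound [IsAlgClosed k] (hk : LocFin k) {r e : ℕ} [Fact r.Prime] [CharP k r] (he : 0 < e)
    {σ : MulAut ↥(D.group k)} (hσ : IsFrob r e σ) {g : (Fin l → ℤ) ≃+ (Fin l → ℤ)}
    (F : Fr cs hp.isCartan (TT D k) (XX D l k) σ g) {d' : ℕ} {B' : Fin l → Fin l → ℤ} (hB : InvC D l d' B')
    (hd' : d' ≠ 0) {s : ℕ} (hs : s.Prime) (hsr : s ≠ r) {Rf : Set ((Fin l → ℤ) →+ ZMod s)}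
    (hRf : Meets hp cs Rf) {x z t : ↥(D.group k)} (hx : σ x = x) (hxs : x ^ s = 1) (hx1 : x ≠ 1) (ht : t ∈ TT D k)
    (e0 : z⁻¹ * x * z = t) [Finite ↥(fixC σ x)] :
    ∃ f ∈ Rf, f ≠ 0 ∧ ∃ w : W, Pair hp cs g (r ^ e) s f w ∧
      ∀ Cw : Finset W, Cov hp cs g f w Cw → Nat.card ↥(fixC σ x) ≤ val hp cs g (r ^ e) f w Cw := by
  classical
  have := finite_W hp cs
  have hN : NSys M (TT D k) (nc hp k) := nsys_of_locFin hp cs hk r
  have hsk : (s : k) ≠ 0 := by
    intro h0
    have h1 := (CharP.cast_eq_zero_iff k r s).1 h0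
    exact hsr ((Nat.prime_dvd_prime_iff_eq (Fact.out : r.Prime) hs).1 h1).symm
  have hts : t ^ s = 1 := by
    have e1 : t = z⁻¹ * x * z⁻¹⁻¹ := by rw [inv_inv, e0]
    rw [e1, conj_pow, hxs, mul_one, inv_inv, inv_mul_cancel]
  -- the conjugate of `t`
  obtain ⟨f0, hf0⟩ := exists_add hp hs hsk ht hts
  obtain ⟨v0, hv0⟩ := hRf f0
  have H := tow (k := k) hp cs hk r
  obtain ⟨m, -, hm0⟩ := H.exists_rp v0⁻¹
  have hm : Rp cs hN v0⁻¹ m := by
    have key : ∀ (T : Subgroup ↥(D.group k)) (h1 : NSys M T (nc hp k)) (h2 : T = TT D k),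
        Rp cs h1 v0⁻¹ m → Rp cs hN v0⁻¹ m := by
      intro T h1 h2 h3
      subst h2
      exact h3
    exact key _ _ (TL_eq hp hk) hm0
  set t1 : ↥(D.group k) := m * t * m⁻¹ with ht1
  have ht1T : t1 ∈ TT D k := (Subgroup.mem_normalizer_iff.1 hm.mem_normalizer t).1 ht
  set f : (Fin l → ℤ) →+ ZMod s := f0.comp (rep cs hp.isCartan v0).toAddMonoidHom with hf
  have hcX : ∀ y, cX hp t1 y = 1 ↔ f y = 0 := by
    intro y
    have h1 := cX_rp hp cs hk r hm ht (rep cs hp.isCartan v0 y)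
    rw [rep_inv_apply] at h1
    rw [ht1, h1]
    exact hf0 _
  have e1 : x = z * m⁻¹ * t1 * (z * m⁻¹)⁻¹ := by
    rw [ht1, ← e0]; group
  obtain ⟨z2, n, w, e2, e3, hn, hnt, hpos⟩ := frame_of hp cs hk he hσ F hB hd' hN hx ht1T e1
  refine ⟨f, hv0, ?_, w, ⟨?_, ?_⟩, ?_⟩
  · intro hf00
    apply hx1
    have h2 : t1 = 1 := by
      refine cX_inj hp ht1T (one_mem _) fun i => ?_
      rw [cX_one, hcX, hf00]
      rfl
    rw [e1, h2]; group
  · intro y
    have h1 := (tau_iff hp cs hk hσ F hn ht1T).1 hnt y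
    have hM := isMC_cX hp ht1T
    have h2 : cX hp t1 (theta hp cs w g y - (r ^ e) • y) = 1 := by
      rw [hM.sub, h1, hM.nsmul, div_self (pow_ne_zero _ (hM.ne_zero y))]
    rw [hcX, map_sub, sub_eq_zero, map_nsmul] at h2
    exact h2
  · intro a ha h0 hfa
    refine hpos a ⟨ha, ?_⟩ h0
    rw [← cX_root hp cs ht1T ha]
    exact (hcX a).2 hfa
  · intro Cw hCw
    -- the twisted frame automorphism
    have Fτ : Fr cs hp.isCartan (TT D k) (XX D l k) (MulAut.conj n * σ) (g.trans (repAut cs hp.isCartan w)) :=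
      (Cfsg.Agent.H720.TorusReal.fr_conj hp cs hk r hn).mul F
    have hτσ : IsFrob r e (MulAut.conj n * σ) := hσ.conj_mul _
    have hτt : (MulAut.conj n * σ) t1 = t1 := hnt
    have E : ↥(fixC (MulAut.conj n * σ) t1) ≃* ↥(fixC σ x) :=
      fixEquiv (z := z2) (by rw [e2]; group) e3.symm
    have hfin : Finite ↥(fixC (MulAut.conj n * σ) t1) := Finite.of_equiv _ E.symm.toEquiv
    have hSx : ∀ a, a ∈ Sx cs hp.isCartan (ch hp) t1 ↔ IsRoot cs hp.isCartan a ∧ f a = 0 := by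
      intro a
      constructor
      · rintro ⟨ha, h1⟩
        exact ⟨ha, (hcX a).1 (by rw [cX_root hp cs ht1T ha]; exact h1)⟩
      · rintro ⟨ha, h1⟩
        exact ⟨ha, by rw [← cX_root hp cs ht1T ha]; exact (hcX a).2 h1⟩
    have hmain := card_fixC_le hp cs hk ht1T he hτσ Fτ hτt hpos Cw (fun v hv1 hv2 => by
      refine hCw v ?_ ?_
      · have h3 : ∀ i, f (rep cs hp.isCartan v (sr i)) = f (sr i) := by
          intro i
          have hri := isRoot_sr cs hp.isCartan i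
          have h4 := hv1 _ hri
          have hM := isMC_cX hp ht1T
          rw [← cX_root hp cs ht1T (hri.act v), ← cX_root hp cs ht1T hri] at h4
          have h5 : cX hp t1 (rep cs hp.isCartan v (sr i) - sr i) = 1 := by
            rw [hM.sub, h4, div_self (hM.ne_zero _)]
          rw [hcX, map_sub, sub_eq_zero] at h5
          exact h5
        intro y
        rw [eq_sum_sr y, map_sum, map_sum, map_sum]
        refine Finset.sum_congr rfl fun i _ => ?_
        rw [map_zsmul, map_zsmul, map_zsmul, h3]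
      · have h3 : ∀ i, rep cs hp.isCartan v (theta hp cs w g (sr i)) = theta hp cs w g (rep cs hp.isCartan v (sr i)) :=
          fun i => hv2 _ (isRoot_sr cs hp.isCartan i)
        intro y
        rw [eq_sum_sr y, map_sum, map_sum, map_sum, map_sum]
        refine Finset.sum_congr rfl fun i _ => ?_
        rw [map_zsmul, map_zsmul, map_zsmul, map_zsmul, h3])
    rw [← Nat.card_congr E.toEquiv]
    refine hmain.trans ?_
    have hT := (card_TF_le hp cs he hτσ Fτ).2
    have e5 : (g.trans (repAut cs hp.isCartan w)).toAddMonoidHom = theta hp cs w g := rfl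
    rw [e5] at hT
    have e6 : SP (Sx cs hp.isCartan (ch hp) t1) = psi cs hp.isCartan f := by
      ext a
      constructor
      · rintro ⟨h1, h2⟩
        exact ⟨((hSx a).1 h1).1, h2, ((hSx a).1 h1).2⟩
      · rintro ⟨h1, h2, h3⟩
        exact ⟨(hSx a).2 ⟨h1, h3⟩, h2⟩
    have e7 : ∀ v : W, NormalForm.NW cs hp.isCartan v ∩ Sx cs hp.isCartan (ch hp) t1 = psiN cs hp.isCartan f v := by
      intro v
      ext a
      constructor
      · rintro ⟨⟨h1, h2, h3⟩, h4⟩
        exact ⟨h1, h2, ((hSx a).1 h4).2, h3⟩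
      · rintro ⟨h1, h2, h3, h4⟩
        exact ⟨⟨h1, h2, h4⟩, (hSx a).2 ⟨h1, h3⟩⟩
    rw [e6]
    simp only [e7]
    exact Nat.mul_le_mul_right _ hT

end

section

open Cfsg.Agent.H795.Core

variable {D : ChevalleyDatum} {l : ℕ} {M : CoxeterMatrix (Fin l)} {hp : IsType D l M}
  {k : Type u} [Field k] [IsAlgClosed k] (hk : LocFin k) {r : ℕ} [Fact r.Prime] [CharP k r]
  {G : Type v} [Group G] [Finite G] {p e : ℕ} {φ : G →* ↥(D.group k)} {σ : MulAut ↥(D.group k)}
  {g : (Fin l → ℤ) ≃+ (Fin l → ℤ)}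

include hk in
/-- **The formula for the groups with a `Setup`.** -/
theorem bound_setup (h : Setup hp p r e φ σ g) {d' : ℕ} {B' : Fin l → Fin l → ℤ} (hB : InvC D l d' B')
    (hd' : d' ≠ 0) {s : ℕ} (hs : s.Prime) (hsr : s ≠ r) {Rf : Set ((Fin l → ℤ) →+ ZMod s)}
    (hRf : Meets hp M.toCoxeterSystem Rf) {x : G} (hxs : x ^ s = 1) (hx1 : x ≠ 1) {z t : ↥(D.group k)}
    (hz : z⁻¹ * φ x * z = t) (ht : t ∈ TT D k) :
    ∃ f ∈ Rf, f ≠ 0 ∧ ∃ w : M.Group, Pair hp M.toCoxeterSystem g (r ^ e) s f w ∧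
      ∀ Cw : Finset M.Group, Cov hp M.toCoxeterSystem g f w Cw →
        Nat.card ↥(Subgroup.centralizer {x}) ≤ val hp M.toCoxeterSystem g (r ^ e) f w Cw := by
  classical
  have hfin : Finite ↥(fixC σ (φ x)) := by
    have := h.fin
    exact Finite.of_injective (fun y : ↥(fixC σ (φ x)) => (⟨y.1, (mem_fixC.1 y.2).1⟩ : {y : ↥(D.group k) // σ y = y}))
      (fun a b hab => Subtype.ext (congrArg (fun z : {y : ↥(D.group k) // σ y = y} => z.1) hab))
  obtain ⟨f, h1, h2, w, h3, h4⟩ := bound hp M.toCoxeterSystem hk h.e_pos h.frob h.fr hB hd' hs hsr hRf (h.fix x)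
    (by rw [← map_pow, hxs, map_one]) (fun h0 => hx1 (h.inj (by rw [h0, map_one]))) ht hz
  refine ⟨f, h1, h2, w, h3, fun Cw hCw => le_trans ?_ (h4 Cw hCw)⟩
  let F : ↥(Subgroup.centralizer {x}) → ↥(fixC σ (φ x)) := fun y => ⟨φ y, mem_fixC.2 ⟨h.fix y, by
    rw [← map_mul, ← map_mul, Subgroup.mem_centralizer_singleton_iff.1 y.2]⟩⟩
  refine Nat.card_le_card_of_injective F fun a b hab => ?_
  apply Subtype.ext
  apply h.inj
  exact congrArg (fun z : ↥(fixC σ (φ x)) => (z : ↥(D.group k))) hab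

end

end Cfsg.Agent.H972.CS.Main
end

private theorem dce_fc480d5b4c9f : _root_.True := by
  try have : _root_.True := by simp only [_root_.Cfsg.Agent.H972.CS.Main.psiN.congr_simp]
  try have : _root_.True := by simp only [_root_.Cfsg.Agent.H972.CS.Main.val.congr_simp]
  try have : _root_.True := by simp only [_root_.Cfsg.Agent.BpExc.TorCent.Sx.congr_simp]
  try have : _root_.True := by simp only [_root_.Cfsg.Agent.Nodes.NormalForm.NW.congr_simp]
  try have : _root_.True := by simp only [_root_.Cfsg.Agent.H972.CS.Main.psi.congr_simp]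
  exact _root_.True.intro
end

-- part: H972/CS/Eval
section
prune_inst 0x70505540750002000000009013000020300000000000800030c00702034f5440a042090042200c00103238001804000000000000400000000a003000000704218000400082080104260009801003580c00000000000000000000000000041000200000000
set_option linter.all false
open scoped Cfsg.Agent.FastGrp

/-!
# Evaluation of the centraliser formula by enumeration (helper972)

The elements of `W` are given by the indices of the images of the simple roots; the isometries of the root system with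
prescribed values of `f` are enumerated by a depth first search.

* `dfs`, `mem_dfs`; `detL`, `det_eq`; `sum_le`;
* `Link` : the computational data of a root system; `bound_val` : the value of the formula is at most `value`.
-/

set_option autoImplicit false
set_option linter.unusedSectionVars false

namespace Cfsg.Agent.H972.CS.Eval

/-! ### the search -/

/-- the relations with the chosen indices -/
def okr (N : ℕ) : List ℕ → List ℕ → ℕ → Bool
  | B :: Bs, a :: acc, r => B.testBit (N * a + r) && okr N Bs acc r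
  | _, _, _ => true

theorem okr_map (N : ℕ) (f g : ℕ → ℕ) (L : List ℕ) (r : ℕ) (h : ∀ j ∈ L, (f j).testBit (N * g j + r) = true) :
    okr N (L.map f) (L.map g) r = true := by
  induction L with
  | nil => rfl
  | cons j L ih =>
    rw [List.map_cons, List.map_cons, okr, h j List.mem_cons_self, Bool.true_and]
    exact ih fun j hj => h j (List.mem_cons_of_mem _ hj)

/-- the depth first search: `specs` is the list of (candidates, relations with the earlier ones) -/
def dfs (N : ℕ) : List (List ℕ × List ℕ) → List ℕ → List (List ℕ)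
  | [], acc => [acc]
  | (cl, ms) :: rest, acc => (cl.filter fun r => okr N ms acc r).flatMap fun r => dfs N rest (r :: acc)

/-- the specification -/
def specs (rel : ℕ → ℕ → ℕ) (cl : ℕ → List ℕ) (i : ℕ) : ℕ → List (List ℕ × List ℕ)
  | 0 => []
  | n + 1 => (cl i, (List.range i).reverse.map (rel i)) :: specs rel cl (i + 1) n

theorem range_succ_reverse (i : ℕ) : (List.range (i + 1)).reverse = i :: (List.range i).reverse := by
  rw [List.range_succ, List.reverse_append]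
  rfl

theorem mem_dfs (N : ℕ) (rel : ℕ → ℕ → ℕ) (cl : ℕ → List ℕ) (V : ℕ → ℕ) (l : ℕ) (h1 : ∀ i < l, V i ∈ cl i)
    (h2 : ∀ i < l, ∀ j < i, (rel i j).testBit (N * V j + V i) = true) (n i : ℕ) (hi : i + n = l) :
    (List.range l).reverse.map V ∈ dfs N (specs rel cl i n) ((List.range i).reverse.map V) := by
  induction n generalizing i with
  | zero =>
    rw [Nat.add_zero] at hi
    rw [hi, specs, dfs]
    exact List.mem_singleton_self _
  | succ n ih =>
    rw [specs, dfs, List.mem_flatMap]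
    refine ⟨V i, List.mem_filter.2 ⟨h1 i (by omega), okr_map _ _ _ _ _ fun j hj => ?_⟩, ?_⟩
    · rw [List.mem_reverse, List.mem_range] at hj
      exact h2 i (by omega) j hj
    · have h3 := ih (i + 1) (by omega)
      rw [range_succ_reverse, List.map_cons] at h3
      exact h3

/-! ### the determinant -/

/-- partial sums -/
def sumR (f : ℕ → ℤ) : ℕ → ℤ
  | 0 => 0
  | j + 1 => sumR f j + f j

theorem sumR_eq (f : ℕ → ℤ) (n : ℕ) : sumR f n = ∑ i ∈ Finset.range n, f i := by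
  induction n with
  | zero => rfl
  | succ n ih => rw [sumR, ih, Finset.sum_range_succ]

/-- the Laplace expansion along the first row -/
def detL : ℕ → List (List ℤ) → ℤ
  | 0, _ => 1
  | n + 1, L => sumR (fun j => if (L.headD []).getD j 0 = 0 then 0 else
      (if j % 2 = 0 then (L.headD []).getD j 0 else -(L.headD []).getD j 0) *
        detL n (L.tail.map fun x => x.eraseIdx j)) (n + 1)

/-- the matrix of a list -/
def mat (n : ℕ) (L : List (List ℤ)) : Matrix (Fin n) (Fin n) ℤ := fun i j => (L.getD i []).getD j 0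

theorem mat_erase (n : ℕ) (L : List (List ℤ)) (j : Fin (n + 1)) :
    mat n (L.tail.map fun x => x.eraseIdx j) = (mat (n + 1) L).submatrix Fin.succ j.succAbove := by
  ext i k
  rw [Matrix.submatrix_apply, mat, mat]
  have h1 : ((L.tail.map fun x => x.eraseIdx (j : ℕ)).getD (i : ℕ) []) = (L.getD ((i : ℕ) + 1) []).eraseIdx j := by
    rw [List.getD_eq_getElem?_getD, List.getD_eq_getElem?_getD, List.getElem?_map, List.getElem?_tail]
    cases L[(i : ℕ) + 1]? with
    | none => simp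
    | some x => rfl
  rw [h1, List.getD_eq_getElem?_getD, List.getD_eq_getElem?_getD, List.getElem?_eraseIdx]
  have h2 : ((Fin.succ i : Fin (n + 1)) : ℕ) = (i : ℕ) + 1 := rfl
  rw [h2]
  congr 1
  by_cases h : (k : ℕ) < j
  · rw [if_pos h, Fin.succAbove_of_castSucc_lt j k (by exact h)]
    rfl
  · rw [if_neg h, Fin.succAbove_of_le_castSucc j k (by exact not_lt.1 h)]
    rfl

theorem det_eq (n : ℕ) (L : List (List ℤ)) : (mat n L).det = detL n L := by
  induction n generalizing L with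
  | zero => rw [Matrix.det_fin_zero]; rfl
  | succ n ih =>
    rw [Matrix.det_succ_row_zero, detL, sumR_eq, Finset.sum_range]
    refine Finset.sum_congr rfl fun j _ => ?_
    have h1 : mat (n + 1) L 0 j = (L.headD []).getD j 0 := by
      cases L with
      | nil => rfl
      | cons x L => rfl
    rw [h1, ← mat_erase, ih]
    by_cases h0 : (L.headD []).getD (j : ℕ) 0 = 0
    · rw [if_pos h0, h0, mul_zero, zero_mul]
    · rw [if_neg h0]
      by_cases h2 : (j : ℕ) % 2 = 0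
      · rw [if_pos h2, (Nat.even_iff.2 h2).neg_one_pow, one_mul]
      · rw [if_neg h2, (Nat.not_even_iff_odd.1 (fun h3 => h2 (Nat.even_iff.1 h3))).neg_one_pow, neg_one_mul]

/-! ### sums over lists -/

theorem sum_le {α β : Type*} [DecidableEq β] (S : Finset α) (g : α → β) (L : List β) (w1 : α → ℕ) (w2 : β → ℕ)
    (hg : ∀ a ∈ S, ∀ b ∈ S, g a = g b → a = b) (hL : ∀ a ∈ S, g a ∈ L) (hw : ∀ a ∈ S, w1 a ≤ w2 (g a)) :
    ∑ a ∈ S, w1 a ≤ (L.map w2).sum := by
  calc ∑ a ∈ S, w1 a ≤ ∑ a ∈ S, w2 (g a) := Finset.sum_le_sum hw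
    _ = ∑ b ∈ S.image g, w2 b := (Finset.sum_image hg).symm
    _ ≤ ∑ b ∈ L.toFinset, w2 b := by
      refine Finset.sum_le_sum_of_subset fun b hb => ?_
      obtain ⟨a, ha, rfl⟩ := Finset.mem_image.1 hb
      exact List.mem_toFinset.2 (hL a ha)
    _ = (L.dedup.map w2).sum := by
      rw [Finset.sum_eq_multiset_sum, List.toFinset_val, Multiset.map_coe, Multiset.sum_coe]
    _ ≤ (L.map w2).sum := ((List.dedup_sublist L).map w2).sum_le_sum fun _ _ => Nat.zero_le _

/-! ### lists of integers as vectors -/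

/-- dot product -/
def dot : List ℤ → List ℤ → ℤ
  | a :: as, b :: bs => a * b + dot as bs
  | _, _ => 0

/-- the vector of a list -/
def vl (l : ℕ) (L : List ℤ) : Fin l → ℤ := fun i => L.getD i 0

theorem dot_eq (l : ℕ) (x y : List ℤ) (hx : x.length = l) (hy : y.length = l) :
    dot x y = ∑ i : Fin l, vl l x i * vl l y i := by
  induction l generalizing x y with
  | zero =>
    rw [List.length_eq_zero_iff] at hx
    subst hx
    cases y <;> rfl
  | succ l ih =>
    cases x with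
    | nil => simp at hx
    | cons a x =>
      cases y with
      | nil => simp at hy
      | cons b y =>
        rw [List.length_cons] at hx hy
        rw [dot, ih x y (by omega) (by omega), Fin.sum_univ_succ]
        rfl

/-! ### the data of a root system -/

/-- the computational data: `N` roots with coordinates `Rt`, the functional `ev`, the values `Cd` of `ev`, the relations -/
structure Data where
  N : ℕ
  Rt : List (List ℤ)
  ev : List ℤ
  Cd : List ℤ
  rel : ℕ → ℕ → ℕ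
  /-- a vector preserved by `W` modulo `m` -/
  cv : List ℤ
  m : ℤ

section

open CoxeterSystem Cfsg Cfsg.Lie Cfsg.Lie.ChevalleyDatum
open Cfsg.Agent.ChevalleyStructure Cfsg.Agent.ChevalleyStructure.Elts Cfsg.Agent.ChevalleyStructure.CoxeterGeom
  Cfsg.Agent.ChevalleyStructure.CoxeterGeomTypes Cfsg.Agent.ChevalleyStructure.NPerm
open Cfsg.Agent.Tits.Roots Cfsg.Agent.Tits.Core Cfsg.Agent.Nodes Cfsg.Agent.Nodes.Reps Cfsg.Agent.Nodes.BNOf
  Cfsg.Agent.Nodes.RGDChev Cfsg.Agent.H129.TorusChar Cfsg.Agent.H129.TorusMain Cfsg.Agent.H972.CS.Main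
  Cfsg.Agent.H972.CS.Torus

variable (Da : Data)

/-- the coordinates of a root -/
def Data.rt (r : ℕ) : List ℤ := Da.Rt.getD r []

/-- the code of a root -/
def Data.cd (r : ℕ) : ℤ := Da.Cd.getD r 0

/-- the roots `r` with `f r = tgt`, positive if `pos` -/
def Data.cls (s : ℤ) (fl : List ℤ) (tgt : ℤ) (pos : Bool) : List ℕ :=
  (List.range Da.N).filter fun r => (dot (Da.rt r) fl - tgt) % s == 0 && (!pos || decide (0 < Da.cd r))

/-- `f x ≡ tgt` -/
def Data.comm (Θ V : List ℕ) : Bool :=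
  (Θ.zip V).all fun p => dot (Da.rt p.1) (V.map Da.cd) == dot (Da.rt p.2) (Θ.map Da.cd)

/-- the congruence for `cv` -/
def Data.chk (ε : ℤ) (V : List ℕ) : Bool := (dot Da.cv (V.map Da.cd) - ε * dot Da.cv Da.ev) % Da.m == 0

/-- the coordinates of the positive roots killed by `f` -/
def Data.psiL (s : ℤ) (fl : List ℤ) : List (List ℤ) :=
  ((List.range Da.N).filter fun r => dot (Da.rt r) fl % s == 0 && decide (0 < Da.cd r)).map Da.rt

/-- the number of the roots of `P` made negative -/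
def Data.cnt (P : List (List ℤ)) (V : List ℕ) : ℕ := (P.filter fun X => decide (dot X (V.map Da.cd) ≤ 0)).length

/-- `θ` keeps the roots of `P` positive -/
def Data.keep (P : List (List ℤ)) (V : List ℕ) : Bool := P.all fun X => decide (0 ≤ dot X (V.map Da.cd))

/-- the weight of a leaf -/
def Data.wt (q : ℕ) (P : List (List ℤ)) (Θ : List ℕ) (acc : List ℕ) : ℕ :=
  if Da.chk 1 acc.reverse && Da.comm Θ acc.reverse then q ^ Da.cnt P acc.reverse else 0

/-- the rows of `θ - q` -/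
def Data.rows (l q : ℕ) (Θ : List ℕ) : List (List ℤ) :=
  (List.range l).map fun i => (List.range l).map fun j => (Da.rt (Θ.getD i 0)).getD j 0 - if i = j then (q : ℤ) else 0

/-- the search list for the `v` -/
def Data.vs (l : ℕ) (s : ℤ) (fl : List ℤ) : List (List ℕ) :=
  dfs Da.N (specs Da.rel (fun i => Da.cls s fl (fl.getD i 0) false) 0 l) []

/-- the search list for the `θ` -/
def Data.ths (l q : ℕ) (s : ℤ) (fl : List ℤ) : List (List ℕ) :=
  dfs Da.N (specs Da.rel (fun i => Da.cls s fl (q * fl.getD i 0) (fl.getD i 0 % s == 0)) 0 l) []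

/-- the value -/
def Data.value (l q : ℕ) (s : ℤ) (fl : List ℤ) (Θ : List ℕ) : ℕ :=
  (detL l (Da.rows l q Θ)).natAbs * (q ^ (Da.psiL s fl).length * ((Da.vs l s fl).map (Da.wt q (Da.psiL s fl) Θ)).sum)

/-- the bound for one `f` -/
def Data.ok (l q : ℕ) (s : ℤ) (ε : ℤ) (K : ℕ) (fl : List ℤ) : Bool :=
  (Da.ths l q s fl).all fun acc =>
    !(Da.chk ε acc.reverse && Da.keep (Da.psiL s fl) acc.reverse) || decide (Da.value l q s fl acc.reverse ≤ K)

variable {D : ChevalleyDatum} {l : ℕ} {M : CoxeterMatrix (Fin l)} (hp : IsType D l M)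
  {W : Type*} [Group W] (cs : CoxeterSystem M W)

/-- the bilinear form -/
def bil {l : ℕ} (B : Fin l → Fin l → ℤ) (x y : Fin l → ℤ) : ℤ := ∑ i, ∑ j, x i * B i j * y j

/-- the link between the data and the group -/
structure Link (B : Fin l → Fin l → ℤ) : Prop where
  root : ∀ a, IsRoot cs hp.isCartan a → ∃ r < Da.N, vl l (Da.rt r) = a
  isr : ∀ r < Da.N, IsRoot cs hp.isCartan (vl l (Da.rt r))
  len : ∀ r < Da.N, (Da.rt r).length = l
  evl : Da.ev.length = l
  evp : ∀ i < l, 0 < Da.ev.getD i 0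
  cd : ∀ r < Da.N, Da.cd r = dot (Da.rt r) Da.ev
  inv : ∀ (w : W) a b, bil B (rep cs hp.isCartan w a) (rep cs hp.isCartan w b) = bil B a b
  rel : ∀ i j : Fin l, j < i → ∀ r < Da.N, ∀ s < Da.N, bil B (vl l (Da.rt r)) (vl l (Da.rt s)) = B i j →
    (Da.rel i j).testBit (Da.N * s + r) = true
  cvl : Da.cv.length = l
  cvi : ∀ w : W, ∃ y : Fin l → ℤ, rep cs hp.isCartan w (vl l Da.cv) - vl l Da.cv = Da.m • y

/-- isometries of the root system -/
structure Isom (B : Fin l → Fin l → ℤ) (θ : (Fin l → ℤ) →+ (Fin l → ℤ)) : Prop where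
  root : ∀ a, IsRoot cs hp.isCartan a → IsRoot cs hp.isCartan (θ a)
  inv : ∀ a b, bil B (θ a) (θ b) = bil B a b

variable {Da} {hp} {cs} {B : Fin l → Fin l → ℤ} (L : Link Da hp cs B)

theorem bil_sr (i j : Fin l) : bil B (sr i) (sr j) = B i j := by
  unfold bil
  rw [Finset.sum_eq_single i, Finset.sum_eq_single j]
  · simp [sr]
  · intro b _ hb
    simp [sr, hb]
  · intro h; exact absurd (Finset.mem_univ j) h
  · intro b _ hb
    refine Finset.sum_eq_zero fun c _ => ?_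
    simp [sr, hb]
  · intro h; exact absurd (Finset.mem_univ i) h

include L in
/-- the indices of the images of the simple roots -/
theorem exists_idx {θ : (Fin l → ℤ) →+ (Fin l → ℤ)} (hθ : Isom hp cs B θ) :
    ∃ V : ℕ → ℕ, ∀ i : Fin l, V i < Da.N ∧ vl l (Da.rt (V i)) = θ (sr i) := by
  have h1 : ∀ i : Fin l, ∃ r < Da.N, vl l (Da.rt r) = θ (sr i) := fun i =>
    L.root _ (hθ.root _ (isRoot_sr cs hp.isCartan i))
  choose f hf hf' using h1
  refine ⟨fun i => if h : i < l then f ⟨i, h⟩ else 0, fun i => ?_⟩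
  have h2 : (fun i => if h : i < l then f ⟨i, h⟩ else 0) (i : ℕ) = f i := dif_pos i.2
  rw [h2]
  exact ⟨hf i, hf' i⟩

/-- the list of the indices -/
def tup (l : ℕ) (V : ℕ → ℕ) : List ℕ := (List.range l).map V

theorem tup_length (V : ℕ → ℕ) : (tup l V).length = l := by rw [tup, List.length_map, List.length_range]

theorem tup_getD (V : ℕ → ℕ) (i : ℕ) (hi : i < l) : (tup l V).getD i 0 = V i := by
  rw [tup, List.getD_eq_getElem?_getD, List.getElem?_map, List.getElem?_range hi]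
  rfl

include L in
/-- the code of an image -/
theorem dot_codes {θ : (Fin l → ℤ) →+ (Fin l → ℤ)} {V : ℕ → ℕ}
    (hV : ∀ i : Fin l, V i < Da.N ∧ vl l (Da.rt (V i)) = θ (sr i)) (X : List ℤ) (hX : X.length = l) :
    dot X ((tup l V).map Da.cd) = ∑ j, θ (vl l X) j * vl l Da.ev j := by
  rw [dot_eq l X _ hX (by rw [List.length_map, tup_length])]
  have h1 : θ (vl l X) = ∑ i, vl l X i • θ (sr i) := by
    conv_lhs => rw [eq_sum_sr (vl l X)]
    rw [map_sum]
    exact Finset.sum_congr rfl fun i _ => by rw [map_zsmul]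
  have h2 : ∀ i : Fin l, vl l ((tup l V).map Da.cd) i = ∑ j, θ (sr i) j * vl l Da.ev j := by
    intro i
    have h3 : vl l ((tup l V).map Da.cd) i = Da.cd (V i) := by
      unfold vl
      rw [List.getD_eq_getElem?_getD, List.getElem?_map, tup, List.getElem?_map, List.getElem?_range i.2]
      rfl
    rw [h3, L.cd _ (hV i).1, dot_eq l _ _ (L.len _ (hV i).1) L.evl, (hV i).2]
  simp only [h2, h1]
  rw [Finset.sum_congr rfl fun i _ => Finset.mul_sum _ _ _, Finset.sum_comm]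
  refine Finset.sum_congr rfl fun j _ => ?_
  rw [Finset.sum_apply, Finset.sum_mul]
  refine Finset.sum_congr rfl fun i _ => ?_
  rw [Pi.smul_apply, smul_eq_mul]
  ring

theorem f_vl {s : ℕ} {f : (Fin l → ℤ) →+ ZMod s} {fl : List ℤ} (hfl : fl.length = l)
    (hf : ∀ i : Fin l, f (sr i) = ((fl.getD i 0 : ℤ) : ZMod s)) (X : List ℤ) (hX : X.length = l) :
    f (vl l X) = ((dot X fl : ℤ) : ZMod s) := by
  rw [dot_eq l X fl hX hfl]
  conv_lhs => rw [eq_sum_sr (vl l X)]
  rw [map_sum, Int.cast_sum]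
  refine Finset.sum_congr rfl fun i _ => ?_
  rw [map_zsmul, hf, zsmul_eq_mul, Int.cast_mul]
  rfl

theorem mod_of_eq {s : ℕ} {a b : ℤ} (h : ((a : ℤ) : ZMod s) = ((b : ℤ) : ZMod s)) : (a - b) % (s : ℤ) = 0 := by
  have h1 : (((a - b : ℤ)) : ZMod s) = 0 := by rw [Int.cast_sub, h, sub_self]
  exact Int.emod_eq_zero_of_dvd ((ZMod.intCast_zmod_eq_zero_iff_dvd _ _).1 h1)

theorem eq_of_mod {s : ℕ} {a : ℤ} (h : a % (s : ℤ) = 0) : ((a : ℤ) : ZMod s) = 0 :=
  (ZMod.intCast_zmod_eq_zero_iff_dvd _ _).2 (Int.dvd_of_emod_eq_zero h)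

include L in
theorem ev_pos {a : Fin l → ℤ} (ha : 0 ≤ a) (h0 : a ≠ 0) : 0 < ∑ j, a j * vl l Da.ev j := by
  refine Finset.sum_pos' (fun j _ => mul_nonneg (ha j) (L.evp j j.2).le) ?_
  by_contra hcon
  push Not at hcon
  apply h0
  funext j
  have h1 := hcon j (Finset.mem_univ j)
  have h2 := L.evp j j.2
  have h3 := ha j
  rw [Pi.zero_apply] at h3 ⊢
  have h4 : a j * vl l Da.ev j ≤ 0 := h1
  have h5 : (0 : ℤ) < vl l Da.ev j := h2
  nlinarith

include L in
theorem ev_nonpos {a : Fin l → ℤ} (ha : a ≤ 0) : ∑ j, a j * vl l Da.ev j ≤ 0 :=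
  Finset.sum_nonpos fun j _ => mul_nonpos_of_nonpos_of_nonneg (ha j) (L.evp j j.2).le

include L in
theorem ev_nonneg {a : Fin l → ℤ} (ha : 0 ≤ a) : 0 ≤ ∑ j, a j * vl l Da.ev j :=
  Finset.sum_nonneg fun j _ => mul_nonneg (ha j) (L.evp j j.2).le

include L in
/-- the isometries are found by the search -/
theorem mem_search {θ : (Fin l → ℤ) →+ (Fin l → ℤ)} (hθ : Isom hp cs B θ) {V : ℕ → ℕ}
    (hV : ∀ i : Fin l, V i < Da.N ∧ vl l (Da.rt (V i)) = θ (sr i)) {s : ℕ} {f : (Fin l → ℤ) →+ ZMod s} {fl : List ℤ}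
    (hfl : fl.length = l) (hf : ∀ i : Fin l, f (sr i) = ((fl.getD i 0 : ℤ) : ZMod s)) (tgt : ℕ → ℤ) (pos : ℕ → Bool)
    (ht : ∀ i : Fin l, f (θ (sr i)) = ((tgt i : ℤ) : ZMod s)) (hpos : ∀ i : Fin l, pos i = true → 0 ≤ θ (sr i)) :
    (tup l V).reverse ∈ dfs Da.N (specs Da.rel (fun i => Da.cls s fl (tgt i) (pos i)) 0 l) [] := by
  have h := mem_dfs Da.N Da.rel (fun i => Da.cls s fl (tgt i) (pos i)) V l ?_ ?_ l 0 (Nat.zero_add l)
  · rw [tup, ← List.map_reverse]
    exact h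
  · intro i hi
    have h1 := hV ⟨i, hi⟩
    refine List.mem_filter.2 ⟨List.mem_range.2 h1.1, ?_⟩
    rw [Bool.and_eq_true]
    constructor
    · rw [beq_iff_eq]
      apply mod_of_eq
      rw [← f_vl hfl hf _ (L.len _ h1.1), h1.2]
      exact ht ⟨i, hi⟩
    · by_cases h2 : pos i = true
      · rw [h2, Bool.not_true, Bool.false_or, decide_eq_true_iff, L.cd _ h1.1,
          dot_eq l _ _ (L.len _ h1.1) L.evl, h1.2]
        refine ev_pos L (hpos ⟨i, hi⟩ h2) ?_
        exact (hθ.root _ (isRoot_sr cs hp.isCartan ⟨i, hi⟩)).ne_zero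
      · rw [Bool.not_eq_true] at h2
        rw [h2]
        rfl
  · intro i hi j hj
    have h1 := hV ⟨i, hi⟩
    have h2 := hV ⟨j, by omega⟩
    refine L.rel ⟨i, hi⟩ ⟨j, by omega⟩ hj _ h1.1 _ h2.1 ?_
    rw [h1.2, h2.2, hθ.inv, bil_sr]

/-! ### the value -/

theorem ncard_le_length {α β : Type*} {S : Set α} (P : List β) (f : β → α) (h : ∀ a ∈ S, ∃ b ∈ P, f b = a) :
    S.ncard ≤ P.length := by
  classical
  have h1 : S ⊆ ((P.map f).toFinset : Set α) := by
    intro a ha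
    obtain ⟨b, hb, rfl⟩ := h a ha
    rw [Finset.mem_coe, List.mem_toFinset]
    exact List.mem_map_of_mem hb
  refine (Set.ncard_le_ncard h1 (Finset.finite_toSet _)).trans ?_
  rw [Set.ncard_coe_finset]
  exact (List.toFinset_card_le _).trans (le_of_eq (List.length_map _))

include L in
theorem mem_psiL {s : ℕ} {f : (Fin l → ℤ) →+ ZMod s} {fl : List ℤ} (hfl : fl.length = l)
    (hf : ∀ i : Fin l, f (sr i) = ((fl.getD i 0 : ℤ) : ZMod s)) {a : Fin l → ℤ} (ha : a ∈ Main.psi cs hp.isCartan f) :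
    ∃ X ∈ Da.psiL s fl, vl l X = a ∧ X.length = l := by
  obtain ⟨h1, h2, h3⟩ := ha
  obtain ⟨r, hr, e⟩ := L.root a h1
  refine ⟨Da.rt r, List.mem_map_of_mem (List.mem_filter.2 ⟨List.mem_range.2 hr, ?_⟩), e, L.len r hr⟩
  rw [Bool.and_eq_true]
  constructor
  · rw [beq_iff_eq]
    have h4 := mod_of_eq (s := s) (a := dot (Da.rt r) fl) (b := 0)
      (by rw [← f_vl hfl hf _ (L.len r hr), e, h3, Int.cast_zero])
    rwa [sub_zero] at h4
  · rw [decide_eq_true_iff, L.cd r hr, dot_eq l _ _ (L.len r hr) L.evl, e]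
    exact ev_pos L h2 h1.ne_zero

include L in
theorem det_value {θ : (Fin l → ℤ) →+ (Fin l → ℤ)} {V : ℕ → ℕ}
    (hV : ∀ i : Fin l, V i < Da.N ∧ vl l (Da.rt (V i)) = θ (sr i)) (q : ℕ) :
    LinearMap.det (gq θ q) = detL l (Da.rows l q (tup l V)) := by
  rw [← det_eq, ← LinearMap.det_toMatrix', ← Matrix.det_transpose]
  congr 1
  ext i j
  rw [Matrix.transpose_apply, LinearMap.toMatrix'_apply]
  have h2 : mat l (Da.rows l q (tup l V)) i j = (Da.rt (V i)).getD j 0 - if (i : ℕ) = j then (q : ℤ) else 0 := by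
    unfold mat Data.rows
    rw [List.getD_eq_getElem?_getD, List.getD_eq_getElem?_getD, List.getElem?_map, List.getElem?_range i.2]
    simp only [Option.map_some, Option.getD_some]
    rw [List.getElem?_map, List.getElem?_range j.2]
    simp only [Option.map_some, Option.getD_some]
    rw [tup_getD V i i.2]
  rw [h2]
  have h3 : (Da.rt (V i)).getD j 0 = θ (sr i) j := by
    rw [← (hV i).2]
    rfl
  rw [h3]
  have h4 : ∀ x : Fin l → ℤ, x = sr i → (gq θ q) x j = θ (sr i) j - if (i : ℕ) = j then (q : ℤ) else 0 := by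
    rintro x rfl
    rw [gq_apply, Pi.sub_apply, Pi.smul_apply, smul_eq_mul]
    congr 1
    by_cases h : i = j
    · subst h
      rw [if_pos rfl, sr_self, mul_one]
    · rw [if_neg (fun e => h (Fin.ext e))]
      have h5 : (sr i : Fin l → ℤ) j = 0 := by
        simp only [sr]
        exact Pi.single_eq_of_ne (fun e => h e.symm) 1
      rw [h5, mul_zero]
  exact h4 (sr i) rfl

/-- an element of `W` as an additive map -/
noncomputable def rpH (hp : IsType D l M) (cs : CoxeterSystem M W) (w : W) : (Fin l → ℤ) →+ (Fin l → ℤ) :=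
  (rep cs hp.isCartan w).toAddMonoidHom

theorem rpH_apply (w : W) (x : Fin l → ℤ) : rpH hp cs w x = rep cs hp.isCartan w x := rfl

include L in
theorem isom_rp (w : W) : Isom hp cs B (rpH hp cs w) :=
  ⟨fun _ ha => ha.act w, fun a b => L.inv w a b⟩

include L in
theorem chk_of {θ : (Fin l → ℤ) →+ (Fin l → ℤ)} {V : ℕ → ℕ}
    (hV : ∀ i : Fin l, V i < Da.N ∧ vl l (Da.rt (V i)) = θ (sr i)) {ε : ℤ}
    (h : ∃ y : Fin l → ℤ, θ (vl l Da.cv) - ε • vl l Da.cv = Da.m • y) : Da.chk ε (tup l V) = true := by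
  obtain ⟨y, hy⟩ := h
  unfold Data.chk
  rw [beq_iff_eq, dot_codes L hV Da.cv L.cvl, dot_eq l _ _ L.cvl L.evl]
  have h1 : ∀ j, θ (vl l Da.cv) j = ε * vl l Da.cv j + Da.m * y j := by
    intro j
    have := congrFun hy j
    rw [Pi.sub_apply, Pi.smul_apply, Pi.smul_apply, smul_eq_mul, smul_eq_mul] at this
    linarith
  have h2 : ∑ j, θ (vl l Da.cv) j * vl l Da.ev j - ε * ∑ i, vl l Da.cv i * vl l Da.ev i =
      Da.m * ∑ j, y j * vl l Da.ev j := by
    rw [Finset.mul_sum, Finset.mul_sum, ← Finset.sum_sub_distrib]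
    refine Finset.sum_congr rfl fun j _ => ?_
    rw [h1]
    ring
  rw [h2]
  exact Int.mul_emod_right _ _

include L in
theorem comm_of {θ θ' : (Fin l → ℤ) →+ (Fin l → ℤ)} {V V' : ℕ → ℕ}
    (hV : ∀ i : Fin l, V i < Da.N ∧ vl l (Da.rt (V i)) = θ (sr i))
    (hV' : ∀ i : Fin l, V' i < Da.N ∧ vl l (Da.rt (V' i)) = θ' (sr i)) (h : ∀ x, θ' (θ x) = θ (θ' x)) :
    Da.comm (tup l V) (tup l V') = true := by
  unfold Data.comm
  rw [List.all_eq_true]
  intro p hp'
  have h1 : (tup l V).zip (tup l V') = (List.range l).map fun i => (V i, V' i) := by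
    rw [tup, tup, List.zip_map']
  rw [h1, List.mem_map] at hp'
  obtain ⟨i, hi, rfl⟩ := hp'
  rw [List.mem_range] at hi
  have h2 := hV ⟨i, hi⟩
  have h3 := hV' ⟨i, hi⟩
  show (dot (Da.rt (V i)) ((tup l V').map Da.cd) == dot (Da.rt (V' i)) ((tup l V).map Da.cd)) = true
  rw [beq_iff_eq, dot_codes L hV' _ (L.len _ h2.1), dot_codes L hV _ (L.len _ h3.1)]
  have h4 : vl l (Da.rt (V i)) = θ (sr ⟨i, hi⟩) := h2.2
  have h5 : vl l (Da.rt (V' i)) = θ' (sr ⟨i, hi⟩) := h3.2
  rw [h4, h5, h]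

include L in
theorem cnt_of {s : ℕ} {f : (Fin l → ℤ) →+ ZMod s} {fl : List ℤ} (hfl : fl.length = l)
    (hf : ∀ i : Fin l, f (sr i) = ((fl.getD i 0 : ℤ) : ZMod s)) {v : W} {V : ℕ → ℕ}
    (hV : ∀ i : Fin l, V i < Da.N ∧ vl l (Da.rt (V i)) = rpH hp cs v (sr i)) :
    (Main.psiN cs hp.isCartan f v).ncard ≤ Da.cnt (Da.psiL s fl) (tup l V) := by
  unfold Data.cnt
  refine ncard_le_length _ (vl l) fun a ha => ?_
  obtain ⟨h1, h2, h3, h4⟩ := ha
  obtain ⟨X, hX, e, hl⟩ := mem_psiL L hfl hf (a := a) ⟨h1, h2, h3⟩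
  refine ⟨X, List.mem_filter.2 ⟨hX, ?_⟩, e⟩
  rw [decide_eq_true_iff, dot_codes L hV X hl, e]
  exact ev_nonpos L h4

include L in
/-- **The value of the formula.** -/
theorem val_le [Finite W] {g : (Fin l → ℤ) ≃+ (Fin l → ℤ)} {w : W} {q s : ℕ} (hq : 0 < q)
    {f : (Fin l → ℤ) →+ ZMod s} {fl : List ℤ} (hfl : fl.length = l)
    (hf : ∀ i : Fin l, f (sr i) = ((fl.getD i 0 : ℤ) : ZMod s)) {V : ℕ → ℕ}
    (hV : ∀ i : Fin l, V i < Da.N ∧ vl l (Da.rt (V i)) = theta hp cs w g (sr i)) :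
    ∃ Cw : Finset W, Cov hp cs g f w Cw ∧ val hp cs g q f w Cw ≤ Da.value l q s fl (tup l V) := by
  classical
  have := Fintype.ofFinite W
  refine ⟨Finset.univ.filter fun v => (∀ y, f (rep cs hp.isCartan v y) = f y) ∧
    ∀ y, rep cs hp.isCartan v (theta hp cs w g y) = theta hp cs w g (rep cs hp.isCartan v y), fun v h1 h2 =>
    Finset.mem_filter.2 ⟨Finset.mem_univ v, h1, h2⟩, ?_⟩
  unfold val Data.value
  rw [det_value L hV q]
  refine Nat.mul_le_mul_left _ (Nat.mul_le_mul (Nat.pow_le_pow_right hq ?_) ?_)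
  · exact ncard_le_length _ (vl l) fun a ha => by
      obtain ⟨X, hX, e, -⟩ := mem_psiL L hfl hf ha
      exact ⟨X, hX, e⟩
  · have hv : ∀ v : W, ∃ U : ℕ → ℕ, ∀ i : Fin l, U i < Da.N ∧ vl l (Da.rt (U i)) = rpH hp cs v (sr i) := fun v =>
      exists_idx L (isom_rp L v)
    choose U hU using hv
    refine sum_le _ (fun v => (tup l (U v)).reverse) (Da.vs l s fl) _ _ ?_ ?_ ?_
    · intro a _ b _ hab
      have h1 := List.reverse_injective hab
      apply rep_injective cs hp.isCartan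
      have h2 : ∀ i : Fin l, rep cs hp.isCartan a (sr i) = rep cs hp.isCartan b (sr i) := by
        intro i
        have h3 : U a i = U b i := by
          rw [← tup_getD (U a) i i.2, ← tup_getD (U b) i i.2]
          show (tup l (U a)).getD i 0 = (tup l (U b)).getD i 0
          rw [h1]
        have h4 := (hU a i).2
        rw [h3, (hU b i).2] at h4
        exact h4.symm
      refine LinearMap.ext fun x => ?_
      rw [eq_sum_sr x, map_sum, map_sum]
      exact Finset.sum_congr rfl fun i _ => by rw [map_zsmul, map_zsmul, h2]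
    · intro v hv
      obtain ⟨-, h1, -⟩ := Finset.mem_filter.1 hv
      refine mem_search L (isom_rp L v) (hU v) hfl hf (fun i => fl.getD i 0) (fun _ => false) (fun i => ?_)
        (fun i h => by simp at h)
      rw [rpH_apply, h1]
      exact hf i
    · intro v hv
      obtain ⟨-, h1, h2⟩ := Finset.mem_filter.1 hv
      unfold Data.wt
      rw [List.reverse_reverse]
      have h3 : Da.chk 1 (tup l (U v)) = true := chk_of L (hU v) (by
        obtain ⟨y, hy⟩ := L.cvi v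
        exact ⟨y, by rw [one_smul]; exact hy⟩)
      have h4 : Da.comm (tup l V) (tup l (U v)) = true := comm_of L hV (hU v) h2
      rw [h3, h4, Bool.and_self, if_pos rfl]
      exact Nat.pow_le_pow_right hq (cnt_of L hfl hf (hU v))

/-- `g` is compatible with the data -/
structure GOk (Da : Data) (hp : IsType D l M) (cs : CoxeterSystem M W) (B : Fin l → Fin l → ℤ)
    (g : (Fin l → ℤ) ≃+ (Fin l → ℤ)) (ε : ℤ) : Prop where
  root : ∀ a, IsRoot cs hp.isCartan a → IsRoot cs hp.isCartan (g a)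
  inv : ∀ a b, bil B (g a) (g b) = bil B a b
  cv : ∃ y : Fin l → ℤ, g (vl l Da.cv) - ε • vl l Da.cv = Da.m • y

include L in
/-- **The bound for one `f`.** -/
theorem ok_sound [Finite W] {g : (Fin l → ℤ) ≃+ (Fin l → ℤ)} {ε : ℤ} (hg : GOk Da hp cs B g ε) {w : W} {q s : ℕ}
    (hq : 0 < q) {f : (Fin l → ℤ) →+ ZMod s} {fl : List ℤ} (hfl : fl.length = l)
    (hf : ∀ i : Fin l, f (sr i) = ((fl.getD i 0 : ℤ) : ZMod s)) (hP : Pair hp cs g q s f w) {K : ℕ}
    (hok : Da.ok l q s ε K fl = true) : ∃ Cw : Finset W, Cov hp cs g f w Cw ∧ val hp cs g q f w Cw ≤ K := by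
  have hI : Isom hp cs B (theta hp cs w g) := by
    refine ⟨fun a ha => (hg.root a ha).act w, fun a b => ?_⟩
    rw [theta_apply, theta_apply, L.inv, hg.inv]
  obtain ⟨V, hV⟩ := exists_idx L hI
  obtain ⟨Cw, h1, h2⟩ := val_le L hq hfl hf hV
  refine ⟨Cw, h1, h2.trans ?_⟩
  unfold Data.ok at hok
  rw [List.all_eq_true] at hok
  have h3 := hok (tup l V).reverse (mem_search L hI hV hfl hf (fun i => q * fl.getD i 0)
    (fun i => fl.getD i 0 % (s : ℤ) == 0) (fun i => by
      rw [hP.mul, hf, nsmul_eq_mul, Int.cast_mul, Int.cast_natCast]) (fun i hi => by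
      rw [beq_iff_eq] at hi
      refine hP.pos _ (isRoot_sr cs hp.isCartan i) ?_ ?_
      · intro j
        simp only [sr]
        by_cases h : j = i
        · subst h; simp
        · simp [h]
      · rw [hf]
        exact eq_of_mod hi))
  rw [List.reverse_reverse] at h3
  have h4 : Da.chk ε (tup l V) = true := by
    refine chk_of L hV ?_
    obtain ⟨y, hy⟩ := hg.cv
    obtain ⟨y', hy'⟩ := L.cvi w
    refine ⟨rep cs hp.isCartan w y + ε • y', ?_⟩
    have h5 : g (vl l Da.cv) = ε • vl l Da.cv + Da.m • y := by rw [← hy]; abel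
    rw [theta_apply, h5, map_add, map_zsmul, map_zsmul, smul_add, smul_comm Da.m ε y', ← hy', smul_sub]
    abel
  have h5 : Da.keep (Da.psiL s fl) (tup l V) = true := by
    unfold Data.keep
    rw [List.all_eq_true]
    intro X hX
    rw [decide_eq_true_iff]
    unfold Data.psiL at hX
    rw [List.mem_map] at hX
    obtain ⟨r, hr, rfl⟩ := hX
    rw [List.mem_filter, Bool.and_eq_true, beq_iff_eq, decide_eq_true_iff, List.mem_range] at hr
    obtain ⟨hr1, hr2, hr3⟩ := hr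
    rw [dot_codes L hV _ (L.len r hr1)]
    have h6 := L.isr r hr1
    have h7 : 0 ≤ vl l (Da.rt r) := by
      rcases h6.pos_or_neg with h8 | h8
      · exact h8
      · exfalso
        have h9 := ev_nonpos L h8
        rw [L.cd r hr1, dot_eq l _ _ (L.len r hr1) L.evl] at hr3
        exact absurd hr3 (not_lt.2 h9)
    have h8 : f (vl l (Da.rt r)) = 0 := by
      rw [f_vl hfl hf _ (L.len r hr1)]
      exact eq_of_mod hr2
    exact ev_nonneg L (hP.pos _ h6 h7 h8)
  rw [h4, h5] at h3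
  simpa using h3

end

end Cfsg.Agent.H972.CS.Eval

private theorem dce_614675b32a4d : _root_.True := by
  try have : _root_.True := by simp only [_root_.Cfsg.Agent.H972.CS.Eval.dfs.eq_def]
  try have : _root_.True := by simp only [_root_.Cfsg.Agent.H972.CS.Eval.dot.eq_2]
  try have : _root_.True := by simp only [_root_.Cfsg.Agent.H972.CS.Eval.okr.eq_2]
  try have : _root_.True := by simp only [_root_.Cfsg.Agent.H972.CS.Eval.specs.eq_1]
  try have : _root_.True := by simp only [_root_.Cfsg.Agent.H972.CS.Eval.okr._sparseCasesOn_1.else_eq]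
  try have : _root_.True := by simp only [_root_.Cfsg.Agent.H972.CS.Eval.okr.eq_def]
  try have : _root_.True := by simp only [_root_.Cfsg.Agent.H972.CS.Eval.okr.eq_1]
  try have : _root_.True := by simp only [_root_.Cfsg.Agent.H972.CS.Eval.specs.eq_def]
  try have : _root_.True := by simp only [_root_.Cfsg.Agent.H972.CS.Eval.sumR.eq_1]
  try have : _root_.True := by simp only [_root_.Cfsg.Agent.H972.CS.Eval.sumR.eq_2]
  try have : _root_.True := by simp only [_root_.Cfsg.Agent.H972.CS.Eval.dfs.eq_2]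
  try have : _root_.True := by simp only [_root_.Cfsg.Agent.H972.CS.Eval.dfs.eq_1]
  try have : _root_.True := by simp only [_root_.Cfsg.Agent.H972.CS.Eval.mat.eq_1]
  try have : _root_.True := by simp only [_root_.Cfsg.Agent.H972.CS.Eval.dot.eq_1]
  try have : _root_.True := by simp only [_root_.Cfsg.Agent.H972.CS.Eval.sumR.eq_def]
  try have : _root_.True := by simp only [_root_.Cfsg.Agent.H972.CS.Eval.detL.eq_2]
  try have : _root_.True := by simp only [_root_.Cfsg.Agent.H972.CS.Eval.tup.eq_1]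
  try have : _root_.True := by simp only [_root_.Cfsg.Agent.H972.CS.Eval.detL.eq_def]
  try have : _root_.True := by simp only [_root_.Cfsg.Agent.H972.CS.Eval.detL.eq_1]
  try have : _root_.True := by simp only [_root_.Cfsg.Agent.H972.CS.Eval.specs.eq_2]
  try have : _root_.True := by simp only [_root_.Cfsg.Agent.H972.CS.Eval.dot.eq_def]
  exact _root_.True.intro
end

-- part: H972/CS/LinkOf
section
set_option linter.all false
open scoped Cfsg.Agent.FastGrp

/-!
# The link of the evaluator with the group (helper972)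

* `link_of` : `Link` from kernel checks;
* `meets_alcove` : the orbit representatives of the `f : ℤ^l →+ ZMod s` from the alcove.
-/

set_option autoImplicit false
set_option linter.unusedSectionVars false

namespace Cfsg.Agent.H972.CS.LinkOf

open CoxeterSystem Cfsg Cfsg.Lie Cfsg.Lie.ChevalleyDatum
open Cfsg.Agent.ChevalleyStructure Cfsg.Agent.ChevalleyStructure.Elts Cfsg.Agent.ChevalleyStructure.CoxeterGeom
  Cfsg.Agent.ChevalleyStructure.CoxeterGeomTypes Cfsg.Agent.ChevalleyStructure.NPerm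
open Cfsg.Agent.Tits.Roots Cfsg.Agent.Tits.Core Cfsg.Agent.Nodes Cfsg.Agent.Nodes.Reps Cfsg.Agent.Nodes.BNOf
  Cfsg.Agent.Nodes.RGDChev Cfsg.Agent.H129.TorusChar Cfsg.Agent.H129.TorusMain Cfsg.Agent.H972.CS.Main
  Cfsg.Agent.H972.CS.Torus Cfsg.Agent.H972.CS.Eval

/-- one row of the relation check -/
def rowChk (R : ℤ → ℕ) (vals : List ℤ) (N r : ℕ) (Gr : List ℤ) : List (List ℤ) → ℕ → Bool
  | [], _ => true
  | X :: Xs, s => (!(vals.contains (dot Gr X)) || (R (dot Gr X)).testBit (N * s + r)) && rowChk R vals N r Gr Xs (s + 1)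

theorem rowChk_sound {R : ℤ → ℕ} {vals : List ℤ} {N r : ℕ} {Gr : List ℤ} {Xs : List (List ℤ)} {s0 : ℕ}
    (h : rowChk R vals N r Gr Xs s0 = true) (s : ℕ) (hs : s < Xs.length) (hb : dot Gr (Xs.getD s []) ∈ vals) :
    (R (dot Gr (Xs.getD s []))).testBit (N * (s0 + s) + r) = true := by
  induction Xs generalizing s0 s with
  | nil => simp at hs
  | cons X Xs ih =>
    rw [rowChk, Bool.and_eq_true] at h
    cases s with
    | zero =>
      have h1 : (X :: Xs).getD 0 [] = X := rfl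
      rw [h1] at hb ⊢
      have h2 := h.1
      rw [Bool.or_eq_true] at h2
      rcases h2 with h2 | h2
      · rw [Bool.not_eq_true', ← Bool.not_eq_true, List.contains_iff_mem] at h2
        exact absurd hb h2
      · exact h2
    | succ s =>
      have h1 : (X :: Xs).getD (s + 1) [] = Xs.getD s [] := rfl
      rw [h1] at hb ⊢
      have h3 := ih h.2 s (by simpa using hs) hb
      rwa [show s0 + (s + 1) = s0 + 1 + s by ring]

/-- the relation check -/
def allChk (R : ℤ → ℕ) (vals : List ℤ) (N : ℕ) (Rt : List (List ℤ)) : List (List ℤ) → ℕ → Bool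
  | [], _ => true
  | Gr :: Gs, r => rowChk R vals N r Gr Rt 0 && allChk R vals N Rt Gs (r + 1)

theorem allChk_sound {R : ℤ → ℕ} {vals : List ℤ} {N : ℕ} {Rt : List (List ℤ)} {G : List (List ℤ)} {r0 : ℕ}
    (h : allChk R vals N Rt G r0 = true) (r : ℕ) (hr : r < G.length) (s : ℕ) (hs : s < Rt.length)
    (hb : dot (G.getD r []) (Rt.getD s []) ∈ vals) :
    (R (dot (G.getD r []) (Rt.getD s []))).testBit (N * s + (r0 + r)) = true := by
  induction G generalizing r0 r with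
  | nil => simp at hr
  | cons X Xs ih =>
    rw [allChk, Bool.and_eq_true] at h
    cases r with
    | zero =>
      have h3 := rowChk_sound h.1 s hs hb
      rw [Nat.zero_add] at h3
      exact h3
    | succ r =>
      have h1 : (X :: Xs).getD (r + 1) [] = Xs.getD r [] := rfl
      rw [h1] at hb ⊢
      have h3 := ih h.2 r (by simpa using hr) hb
      rwa [show r0 + (r + 1) = r0 + 1 + r by ring]

variable {D : ChevalleyDatum} {l : ℕ} {M : CoxeterMatrix (Fin l)} (hp : IsType D l M)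
  {W : Type*} [Group W] (cs : CoxeterSystem M W)

theorem bil_sub {B : Fin l → Fin l → ℤ} (x y z : Fin l → ℤ) : bil B (x - y) z = bil B x z - bil B y z := by
  unfold bil
  rw [← Finset.sum_sub_distrib]
  refine Finset.sum_congr rfl fun i _ => ?_
  rw [← Finset.sum_sub_distrib]
  refine Finset.sum_congr rfl fun j _ => ?_
  rw [Pi.sub_apply]; ring

theorem bil_sub' {B : Fin l → Fin l → ℤ} (x y z : Fin l → ℤ) : bil B x (y - z) = bil B x y - bil B x z := by
  unfold bil
  rw [← Finset.sum_sub_distrib]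
  refine Finset.sum_congr rfl fun i _ => ?_
  rw [← Finset.sum_sub_distrib]
  refine Finset.sum_congr rfl fun j _ => ?_
  rw [Pi.sub_apply]; ring

theorem bil_single {B : Fin l → Fin l → ℤ} (i : Fin l) (c : ℤ) (y : Fin l → ℤ) :
    bil B (Pi.single i c) y = c * ∑ j, B i j * y j := by
  unfold bil
  rw [Finset.sum_eq_single i]
  · rw [Finset.mul_sum]
    refine Finset.sum_congr rfl fun j _ => ?_
    rw [Pi.single_eq_same]; ring
  · intro b _ hb
    refine Finset.sum_eq_zero fun c _ => ?_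
    rw [Pi.single_eq_of_ne hb]; ring
  · intro h; exact absurd (Finset.mem_univ i) h

theorem bil_single' {B : Fin l → Fin l → ℤ} (i : Fin l) (c : ℤ) (x : Fin l → ℤ) :
    bil B x (Pi.single i c) = c * ∑ j, x j * B j i := by
  unfold bil
  rw [Finset.mul_sum]
  refine Finset.sum_congr rfl fun j _ => ?_
  rw [Finset.sum_eq_single i]
  · rw [Pi.single_eq_same]; ring
  · intro b _ hb
    rw [Pi.single_eq_of_ne hb]; ring
  · intro h; exact absurd (Finset.mem_univ i) h

theorem bil_refl {B : Fin l → Fin l → ℤ}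
    (hB : ∀ i j : Fin l, 2 * B j i = cartanOf D l i j * B i i ∧ 2 * B i j = cartanOf D l i j * B i i)
    (i : Fin l) (x y : Fin l → ℤ) :
    bil B (refl (cartanOf D l) i x) (refl (cartanOf D l) i y) = bil B x y := by
  rw [refl_apply, refl_apply, bil_sub, bil_sub', bil_sub', bil_single', bil_single, bil_single]
  set γ := pairing (cartanOf D l) i x with hγ
  set δ := pairing (cartanOf D l) i y with hδ
  have e1 : pairing (cartanOf D l) i x = ∑ j, cartanOf D l i j * x j := rfl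
  have e2 : pairing (cartanOf D l) i y = ∑ j, cartanOf D l i j * y j := rfl
  have h1 : 2 * ∑ j, x j * B j i = γ * B i i := by
    rw [hγ, e1, Finset.mul_sum, Finset.sum_mul]
    refine Finset.sum_congr rfl fun j _ => ?_
    have := (hB i j).1
    linear_combination x j * this
  have h2 : 2 * ∑ j, B i j * y j = δ * B i i := by
    rw [hδ, e2, Finset.mul_sum, Finset.sum_mul]
    refine Finset.sum_congr rfl fun j _ => ?_
    have := (hB i j).2
    linear_combination y j * this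
  have h3 : ∑ j, B i j * (Pi.single i δ : Fin l → ℤ) j = δ * B i i := by
    rw [Finset.sum_eq_single i]
    · rw [Pi.single_eq_same]; ring
    · intro b _ hb
      rw [Pi.single_eq_of_ne hb]; ring
    · intro h; exact absurd (Finset.mem_univ i) h
  rw [h3]
  have h4 : 2 * (bil B x y - δ * ∑ j, x j * B j i - (γ * ∑ j, B i j * y j - γ * (δ * B i i))) = 2 * bil B x y := by
    linear_combination (-δ) * h1 - γ * h2
  linarith

/-- **`Link` from kernel checks.** -/
theorem link_of (Da : Data) (B : Fin l → Fin l → ℤ) (G : List (List ℤ)) (R : ℤ → ℕ) (vals : List ℤ)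
    (hN : D.nroots = Da.N) (hRl : Da.Rt.length = Da.N) (hGN : G.length = Da.N)
    (h1 : ∀ r < Da.N, vec D l r = vl l (Da.rt r)) (h2 : ∀ r < Da.N, (Da.rt r).length = l)
    (h3 : Da.ev.length = l) (h4 : ∀ i < l, 0 < Da.ev.getD i 0) (h5 : ∀ r < Da.N, Da.cd r = dot (Da.rt r) Da.ev)
    (hB : ∀ i j : Fin l, 2 * B j i = cartanOf D l i j * B i i ∧ 2 * B i j = cartanOf D l i j * B i i)
    (hG : ∀ r < Da.N, ∀ j : Fin l, (G.getD r []).getD j 0 = ∑ i, vl l (Da.rt r) i * B i j)
    (hGl : ∀ r < Da.N, (G.getD r []).length = l)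
    (hR : ∀ i j : Fin l, j < i → Da.rel i j = R (B i j) ∧ B i j ∈ vals)
    (hc : allChk R vals Da.N Da.Rt G 0 = true) (hcl : Da.cv.length = l)
    (hcv : ∀ i : Fin l, Da.m ∣ ∑ j, cartanOf D l i j * vl l Da.cv j) : Link Da hp cs B where
  root := by
    intro a ha
    obtain ⟨r, hr, rfl⟩ := (isRoot_iff hp cs a).1 ha
    rw [hN] at hr
    exact ⟨r, hr, (h1 r hr).symm⟩
  isr := fun r hr => (isRoot_iff hp cs _).2 ⟨r, by rw [hN]; exact hr, h1 r hr⟩
  len := h2
  evl := h3
  evp := h4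
  cd := h5
  inv := by
    intro w
    induction w using cs.simple_induction_left with
    | one => intro a b; rw [map_one]; rfl
    | mul_simple_left w i ih =>
      intro a b
      rw [rep_mul_apply, rep_mul_apply, rep_simple, bil_refl hB, ih]
  rel := by
    intro i j hij r hr s hs hb
    have e : bil B (vl l (Da.rt r)) (vl l (Da.rt s)) = dot (G.getD r []) (Da.Rt.getD s []) := by
      rw [dot_eq l _ (Da.Rt.getD s []) (hGl r hr) (h2 s hs)]
      unfold bil
      rw [Finset.sum_comm]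
      refine Finset.sum_congr rfl fun j _ => ?_
      have h6 := hG r hr j
      have h7 : vl l (G.getD r []) j = ∑ i, vl l (Da.rt r) i * B i j := h6
      rw [h7, Finset.sum_mul]
      rfl
    rw [(hR i j hij).1, ← hb, e]
    have h6 := allChk_sound hc r (by rw [hGN]; exact hr) s (by rw [hRl]; exact hs)
      (by rw [← e, hb]; exact (hR i j hij).2)
    rwa [Nat.zero_add] at h6
  cvl := hcl
  cvi := by
    intro w
    induction w using cs.simple_induction_left with
    | one => exact ⟨0, by rw [map_one, smul_zero]; exact sub_self _⟩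
    | mul_simple_left w i ih =>
      obtain ⟨y, hy⟩ := ih
      obtain ⟨c, hc'⟩ := hcv i
      refine ⟨refl (cartanOf D l) i y - Pi.single i c, ?_⟩
      have h6 : rep cs hp.isCartan w (vl l Da.cv) = vl l Da.cv + Da.m • y := by rw [← hy]; abel
      rw [rep_mul_apply, rep_simple, h6, map_add, map_zsmul, refl_apply _ _ (vl l Da.cv)]
      have h7 : pairing (cartanOf D l) i (vl l Da.cv) = Da.m * c := hc'
      rw [h7, smul_sub]
      have h8 : (Pi.single i (Da.m * c) : Fin l → ℤ) = Da.m • (Pi.single i c : Fin l → ℤ) := by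
        rw [← Pi.single_smul, smul_eq_mul]
      rw [h8]
      abel

/-- the additive maps given by a list of tuples -/
def RfL (l s : ℕ) (fls : List (List ℤ)) : Set ((Fin l → ℤ) →+ ZMod s) :=
  {f | ∃ fl ∈ fls, ∀ i : Fin l, f (sr i) = ((fl.getD i 0 : ℤ) : ZMod s)}

/-- **The alcove representatives.** -/
theorem meets_alcove {s : ℕ} (hs : 0 < s) (fls : List (List ℤ))
    (hfls : ∀ (c : Fin l → ℕ) (c0 : ℕ), Cfsg.Agent.H931.KC.Kac D l s c c0 → ∃ fl ∈ fls, ∀ i : Fin l, fl.getD i 0 = (c i : ℤ)) :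
    Meets hp M.toCoxeterSystem (RfL l s fls) := by
  intro f
  have : NeZero s := ⟨hs.ne'⟩
  let b : (Fin l → ℤ) →+ ℤ :=
    { toFun := fun x => ∑ i, x i * ((f (sr i)).val : ℤ)
      map_zero' := by simp
      map_add' := fun x y => by
        rw [← Finset.sum_add_distrib]
        refine Finset.sum_congr rfl fun i _ => ?_
        rw [Pi.add_apply, add_mul] }
  have hb : ∀ x, ((b x : ℤ) : ZMod s) = f x := by
    intro x
    show (((∑ i, x i * ((f (sr i)).val : ℤ) : ℤ)) : ZMod s) = f x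
    conv_rhs => rw [eq_sum_sr x]
    rw [map_sum, Int.cast_sum]
    refine Finset.sum_congr rfl fun i _ => ?_
    rw [map_zsmul, zsmul_eq_mul, Int.cast_mul, Int.cast_natCast, ZMod.natCast_zmod_val]
  obtain ⟨w, c, c0, hK, h⟩ := Cfsg.Agent.H931.KC.exists_alcove hp hs b
  obtain ⟨fl, hfl, e⟩ := hfls c c0 hK
  refine ⟨w, fl, hfl, fun i => ?_⟩
  have h1 := h (sr i)
  have h2 : (∑ j, (sr i : Fin l → ℤ) j * (c j : ℤ)) = c i := by
    rw [Finset.sum_eq_single i]
    · rw [sr_self, one_mul]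
    · intro j _ hj
      simp [sr, hj]
    · intro h; exact absurd (Finset.mem_univ i) h
  rw [h2] at h1
  have h3 := (ZMod.intCast_zmod_eq_zero_iff_dvd _ s).2 h1
  rw [Int.cast_sub, hb, sub_eq_zero] at h3
  rw [e i, h3]
  rfl

end Cfsg.Agent.H972.CS.LinkOf

private theorem dce_e92ab0ff0f54 : _root_.True := by
  try have : _root_.True := by simp only [_root_.Cfsg.Agent.H972.CS.LinkOf.allChk.eq_def]
  try have : _root_.True := by simp only [_root_.Cfsg.Agent.H972.CS.LinkOf.allChk.eq_2]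
  try have : _root_.True := by simp only [_root_.Cfsg.Agent.H972.CS.LinkOf.rowChk.eq_2]
  try have : _root_.True := by simp only [_root_.Cfsg.Agent.H972.CS.LinkOf.rowChk.eq_1]
  try have : _root_.True := by simp only [_root_.Cfsg.Agent.H972.CS.LinkOf.rowChk.eq_def]
  try have : _root_.True := by simp only [_root_.Cfsg.Agent.H972.CS.LinkOf.allChk.eq_1]
  exact _root_.True.intro
end

-- part: H742/EX/EPi
section
set_option linter.all false
open scoped Cfsg.Agent.FastGrp

/-!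
# S5745, task E1 (helper742): the counting inequality `E_pi`

`G` finite, `H ≤ G`, `n = |G : H|`, `F x` = number of fixed points of `x` on `G / H`. Let `π` be a set of primes such
that every two-point stabiliser `H ∩ H^g` (`g ∉ H`) has order divisible by some `r ∈ π`. Then

* `card_fix` : `F x * |x^G| = n * |x^G ∩ H|`;
* `e_pi` : `n - 1 ≤ ∑_{r ∈ π} 1 / (r - 1) ∑_{x ∈ H, |x| = r} (F x - 1)`;
* `e_pi_class` : `n - 1 ≤ n ∑_{r ∈ π} 1 / (r - 1) ∑_{x ∈ H, |x| = r} |x^G ∩ H| / |x^G|`;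
* `e_pi_crude` : `n - 1 ≤ n ∑_{r ∈ π} N_r ^ 2 / ((r - 1) c_r)` if `H` has at most `N_r` elements of order `r` and all of
  them have `|x^G| ≥ c_r`.
-/

set_option autoImplicit false
set_option linter.unusedSectionVars false

namespace Cfsg.Agent.H742.EX

open MulAction Subgroup Cfsg.Agent.H284

variable {G : Type*} [Group G]

/-- the fixed points of `x` on the cosets of `H` -/
noncomputable def F (H : Subgroup G) (x : G) : ℕ := Nat.card (fixedBy (G ⧸ H) x)

/-- the class of `x` intersected with `H` -/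
noncomputable def cH (H : Subgroup G) (x : G) : ℕ := Nat.card {y : G // IsConj x y ∧ y ∈ H}

/-- the class of `x` -/
noncomputable def cG (x : G) : ℕ := Nat.card {y : G // IsConj x y}

theorem cG_pos [Finite G] (x : G) : 0 < cG x := by
  have : Nonempty {y : G // IsConj x y} := ⟨⟨x, IsConj.refl x⟩⟩
  exact Nat.card_pos

theorem fixedBy_iff {H : Subgroup G} {x g : G} : (QuotientGroup.mk g : G ⧸ H) ∈ fixedBy (G ⧸ H) x ↔ g⁻¹ * x * g ∈ H := by
  rw [mem_fixedBy]
  change (QuotientGroup.mk (x * g) : G ⧸ H) = QuotientGroup.mk g ↔ _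
  rw [eq_comm, QuotientGroup.eq, mul_assoc]

/-- the fibres of `g ↦ g⁻¹ x g` -/
theorem card_fiber (x y : G) (hy : IsConj x y) :
    Nat.card {g : G // g⁻¹ * x * g = y} = Nat.card {g : G // g⁻¹ * x * g = x} := by
  obtain ⟨c, hc⟩ := isConj_iff.1 hy
  refine Nat.card_congr ⟨fun g => ⟨g.1 * c, ?_⟩, fun g => ⟨g.1 * c⁻¹, ?_⟩, ?_, ?_⟩
  · have h1 : (g.1 * c)⁻¹ * x * (g.1 * c) = c⁻¹ * (g.1⁻¹ * x * g.1) * c := by group
    rw [h1, g.2, ← hc]; group
  · have h1 : (g.1 * c⁻¹)⁻¹ * x * (g.1 * c⁻¹) = c * (g.1⁻¹ * x * g.1) * c⁻¹ := by group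
    rw [h1, g.2, ← hc]
  · intro g; exact Subtype.ext (by simp)
  · intro g; exact Subtype.ext (by simp)

theorem card_pre [Finite G] (x : G) (A : G → Prop) :
    Nat.card {g : G // A (g⁻¹ * x * g)} =
      Nat.card {y : G // IsConj x y ∧ A y} * Nat.card {g : G // g⁻¹ * x * g = x} := by
  classical
  let f : {g : G // A (g⁻¹ * x * g)} → {y : G // IsConj x y ∧ A y} := fun g =>
    ⟨g.1⁻¹ * x * g.1, isConj_iff.2 ⟨g.1⁻¹, by rw [inv_inv]⟩, g.2⟩
  have := Fintype.ofFinite {y : G // IsConj x y ∧ A y}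
  rw [Nat.card_congr (Equiv.sigmaFiberEquiv f).symm, Nat.card_sigma]
  have h1 : ∀ y : {y : G // IsConj x y ∧ A y}, Nat.card {g // f g = y} = Nat.card {g : G // g⁻¹ * x * g = x} := by
    intro y
    rw [← card_fiber x y.1 y.2.1]
    refine Nat.card_congr ⟨fun g => ⟨g.1.1, congrArg Subtype.val g.2⟩, fun g => ⟨⟨g.1, by rw [g.2]; exact y.2.2⟩,
      Subtype.ext g.2⟩, fun _ => rfl, fun _ => rfl⟩
  rw [Finset.sum_congr rfl (fun y _ => h1 y), Finset.sum_const, Finset.card_univ, smul_eq_mul,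
    ← Nat.card_eq_fintype_card]

theorem card_G [Finite G] (x : G) : Nat.card G = cG x * Nat.card {g : G // g⁻¹ * x * g = x} := by
  have h1 := card_pre x (fun _ => True)
  rw [Nat.card_congr (Equiv.subtypeUnivEquiv (fun _ : G => trivial))] at h1
  rw [h1, cG]
  congr 1
  exact Nat.card_congr (Equiv.subtypeEquivRight (by simp))

theorem F_mul [Finite G] (H : Subgroup G) (x : G) :
    F H x * Nat.card H = cH H x * Nat.card {g : G // g⁻¹ * x * g = x} := by
  have h1 := card_pre x (fun y => y ∈ H)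
  rw [cH, ← h1, F, mul_comm, ← Nat.card_prod]
  refine (Nat.card_congr ((Equiv.subtypeEquivRight fun g => ?_).trans
    (QuotientGroup.preimageMkEquivSubgroupProdSet H (fixedBy (G ⧸ H) x)))).symm
  exact fixedBy_iff.symm

/-- **`F x * |x^G| = n * |x^G ∩ H|`** -/
theorem card_fix [Finite G] (H : Subgroup G) (x : G) : F H x * cG x = H.index * cH H x := by
  have h1 := F_mul H x
  have h2 := card_G x
  have h3 := H.card_mul_index
  have hH : 0 < Nat.card H := Nat.card_pos
  have key : Nat.card H * (F H x * cG x) = Nat.card H * (H.index * cH H x) := by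
    calc Nat.card H * (F H x * cG x) = (F H x * Nat.card H) * cG x := by ring
      _ = cH H x * (cG x * Nat.card {g : G // g⁻¹ * x * g = x}) := by rw [h1]; ring
      _ = cH H x * Nat.card G := by rw [← h2]
      _ = _ := by rw [← h3]; ring
  exact Nat.eq_of_mul_eq_mul_left hH key

/-- the elements of order `r` of `H` -/
noncomputable def el (H : Subgroup G) (r : ℕ) [Finite G] : Finset G := by
  classical
  exact (Set.toFinite {x : G | x ∈ H ∧ orderOf x = r}).toFinset

theorem mem_el [Finite G] {H : Subgroup G} {r : ℕ} {x : G} : x ∈ el H r ↔ x ∈ H ∧ orderOf x = r := by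
  simp [el]

/-- a group of order divisible by the prime `r` has at least `r - 1` elements of order `r` -/
theorem le_card_el [Finite G] (M : Subgroup G) {r : ℕ} (hr : r.Prime) (hd : r ∣ Nat.card M) : r - 1 ≤ (el M r).card := by
  classical
  have : Fact r.Prime := ⟨hr⟩
  obtain ⟨x, hx⟩ := exists_prime_orderOf_dvd_card' r hd
  have hx' : orderOf (x : G) = r := by rw [Subgroup.orderOf_coe, hx]
  have h1 : ((Finset.range r).erase 0).card = r - 1 := by
    rw [Finset.card_erase_of_mem (Finset.mem_range.2 hr.pos), Finset.card_range]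
  rw [← h1]
  refine Finset.card_le_card_of_injOn (fun i => (x : G) ^ i) ?_ ?_
  · intro i hi
    simp only [Finset.coe_erase, Finset.coe_range, Set.mem_sdiff, Set.mem_Iio, Set.mem_singleton_iff] at hi
    rw [Finset.mem_coe, mem_el]
    refine ⟨M.pow_mem x.2 i, ?_⟩
    rw [Nat.Coprime.orderOf_pow]
    · exact hx'
    · rw [hx']
      exact (Nat.Prime.coprime_iff_not_dvd hr).2 fun hc => by
        have := Nat.le_of_dvd (by omega) hc
        omega
  · intro i hi j hj hij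
    simp only [Finset.coe_erase, Finset.coe_range, Set.mem_sdiff, Set.mem_Iio, Set.mem_singleton_iff] at hi hj
    have h2 := (pow_inj_mod (x := (x : G)) (n := i) (m := j)).1 hij
    rw [hx', Nat.mod_eq_of_lt hi.1, Nat.mod_eq_of_lt hj.1] at h2
    exact h2

/-- **E_pi** -/
theorem e_pi [Finite G] (H : Subgroup G) (π : Finset ℕ) (hπ : ∀ r ∈ π, r.Prime)
    (hM : ∀ g ∉ H, ∃ r ∈ π, r ∣ Nat.card (H ⊓ cj g H : Subgroup G)) :
    ((H.index : ℚ) - 1) ≤ ∑ r ∈ π, (1 / ((r : ℚ) - 1)) * ∑ x ∈ el H r, ((F H x : ℚ) - 1) := by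
  classical
  have hfin : Finite (G ⧸ H) := inferInstance
  let _ : Fintype (G ⧸ H) := Fintype.ofFinite _
  let o : G ⧸ H := QuotientGroup.mk 1
  -- the number of elements of order `r` fixing the point `b ≠ o`
  have hst : ∀ (b : G ⧸ H), b ≠ o → 1 ≤ ∑ r ∈ π, (1 / ((r : ℚ) - 1)) *
      (((el H r).filter (fun x => x • b = b)).card : ℚ) := by
    intro b hb
    obtain ⟨g, rfl⟩ := QuotientGroup.mk_surjective b
    have hg : g ∉ H := by
      intro hg
      apply hb
      change (QuotientGroup.mk g : G ⧸ H) = QuotientGroup.mk 1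
      rw [QuotientGroup.eq, mul_one]
      exact H.inv_mem hg
    obtain ⟨r, hr, hd⟩ := hM g hg
    have hrp := hπ r hr
    have h1 := le_card_el (H ⊓ cj g H) hrp hd
    have h2 : el (H ⊓ cj g H : Subgroup G) r ⊆ (el H r).filter (fun x => x • (QuotientGroup.mk g : G ⧸ H) = QuotientGroup.mk g) := by
      intro x hx
      rw [mem_el] at hx
      rw [Finset.mem_filter, mem_el]
      refine ⟨⟨hx.1.1, hx.2⟩, ?_⟩
      have h3 := mem_cj.1 hx.1.2
      exact (mem_fixedBy).1 (fixedBy_iff.2 h3)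
    have h3 : ((r : ℚ) - 1) ≤ (((el H r).filter (fun x => x • (QuotientGroup.mk g : G ⧸ H) = QuotientGroup.mk g)).card : ℚ) := by
      have h4 : r - 1 ≤ ((el H r).filter (fun x => x • (QuotientGroup.mk g : G ⧸ H) = QuotientGroup.mk g)).card :=
        h1.trans (Finset.card_le_card h2)
      have h5 : ((r - 1 : ℕ) : ℚ) ≤ _ := Nat.cast_le.2 h4
      rwa [Nat.cast_sub hrp.one_lt.le, Nat.cast_one] at h5
    have hpos : ∀ s ∈ π, (0 : ℚ) < (s : ℚ) - 1 := by
      intro s hs
      have : (1 : ℚ) < s := by exact_mod_cast (hπ s hs).one_lt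
      linarith
    refine le_trans ?_ (Finset.single_le_sum (fun s hs => ?_) hr)
    · rw [one_div, ← div_eq_inv_mul, le_div_iff₀ (hpos r hr), one_mul]
      exact h3
    · exact mul_nonneg (one_div_nonneg.2 (hpos s hs).le) (Nat.cast_nonneg _)
  have hsum := Finset.sum_le_sum (s := Finset.univ.erase o) (f := fun _ => (1 : ℚ)) (fun b hb =>
    hst b (Finset.ne_of_mem_erase hb))
  rw [Finset.sum_const, Finset.card_erase_of_mem (Finset.mem_univ _), Finset.card_univ, ← Nat.card_eq_fintype_card,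
    nsmul_eq_mul, mul_one, Finset.sum_comm] at hsum
  have hidx : Nat.card (G ⧸ H) = H.index := rfl
  have hi1 : 1 ≤ H.index := Nat.one_le_iff_ne_zero.2 (Subgroup.index_ne_zero_of_finite)
  rw [hidx, Nat.cast_sub hi1, Nat.cast_one] at hsum
  refine hsum.trans (le_of_eq ?_)
  refine Finset.sum_congr rfl fun r _ => ?_
  rw [← Finset.mul_sum]
  congr 1
  -- exchange
  have h1 : ∀ b : G ⧸ H, (((el H r).filter (fun x => x • b = b)).card : ℚ) =
      ∑ x ∈ el H r, (if x • b = b then (1 : ℚ) else 0) := by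
    intro b
    rw [Finset.sum_boole]
  rw [Finset.sum_congr rfl (fun b _ => h1 b), Finset.sum_comm]
  refine Finset.sum_congr rfl fun x hx => ?_
  rw [Finset.sum_boole, Finset.filter_erase]
  have hox : o ∈ Finset.univ.filter (fun b : G ⧸ H => x • b = b) := by
    rw [Finset.mem_filter]
    refine ⟨Finset.mem_univ _, ?_⟩
    change x • (QuotientGroup.mk 1 : G ⧸ H) = QuotientGroup.mk 1
    refine (mem_fixedBy).1 (fixedBy_iff.2 ?_)
    rw [inv_one, one_mul, mul_one]
    exact (mem_el.1 hx).1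
  rw [Finset.card_erase_of_mem hox, Nat.cast_sub (Finset.card_pos.2 ⟨o, hox⟩), Nat.cast_one]
  congr 1
  rw [F, Nat.card_eq_fintype_card, Fintype.card_subtype]
  rfl

theorem F_eq [Finite G] (H : Subgroup G) (x : G) : (F H x : ℚ) = H.index * (cH H x / cG x : ℚ) := by
  have h1 := card_fix H x
  have h2 : (0 : ℚ) < cG x := by exact_mod_cast cG_pos x
  have h3 : (F H x : ℚ) * cG x = H.index * cH H x := by exact_mod_cast h1
  field_simp
  exact h3

/-- **E_pi**, with classes -/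
theorem e_pi_class [Finite G] (H : Subgroup G) (π : Finset ℕ) (hπ : ∀ r ∈ π, r.Prime)
    (hM : ∀ g ∉ H, ∃ r ∈ π, r ∣ Nat.card (H ⊓ cj g H : Subgroup G)) :
    ((H.index : ℚ) - 1) ≤ H.index * ∑ r ∈ π, (1 / ((r : ℚ) - 1)) * ∑ x ∈ el H r, (cH H x / cG x : ℚ) := by
  refine (e_pi H π hπ hM).trans ?_
  rw [Finset.mul_sum]
  refine Finset.sum_le_sum fun r hr => ?_
  have hpos : (0 : ℚ) < (r : ℚ) - 1 := by
    have : (1 : ℚ) < r := by exact_mod_cast (hπ r hr).one_lt
    linarith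
  rw [mul_left_comm]
  refine mul_le_mul_of_nonneg_left ?_ (one_div_nonneg.2 hpos.le)
  rw [Finset.mul_sum]
  refine Finset.sum_le_sum fun x _ => ?_
  rw [← F_eq]
  linarith

/-- **E_pi**, crude form -/
theorem e_pi_crude [Finite G] (H : Subgroup G) (π : Finset ℕ) (hπ : ∀ r ∈ π, r.Prime)
    (hM : ∀ g ∉ H, ∃ r ∈ π, r ∣ Nat.card (H ⊓ cj g H : Subgroup G)) (N c : ℕ → ℕ)
    (hN : ∀ r ∈ π, (el H r).card ≤ N r) (hc0 : ∀ r ∈ π, 0 < c r)
    (hc : ∀ r ∈ π, ∀ x ∈ H, orderOf x = r → c r ≤ cG x) :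
    ((H.index : ℚ) - 1) ≤ H.index * ∑ r ∈ π, ((N r : ℚ) ^ 2 / (((r : ℚ) - 1) * c r)) := by
  classical
  refine (e_pi_class H π hπ hM).trans ?_
  refine mul_le_mul_of_nonneg_left (Finset.sum_le_sum fun r hr => ?_) (Nat.cast_nonneg _)
  have hpos : (0 : ℚ) < (r : ℚ) - 1 := by
    have : (1 : ℚ) < r := by exact_mod_cast (hπ r hr).one_lt
    linarith
  have hcp : (0 : ℚ) < c r := by exact_mod_cast hc0 r hr
  have h1 : ∑ x ∈ el H r, (cH H x / cG x : ℚ) ≤ (N r : ℚ) ^ 2 / c r := by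
    have h2 : ∀ x ∈ el H r, (cH H x / cG x : ℚ) ≤ (N r : ℚ) / c r := by
      intro x hx
      obtain ⟨hx1, hx2⟩ := mem_el.1 hx
      have h3 : cH H x ≤ N r := by
        refine le_trans ?_ (hN r hr)
        have h5 : cH H x ≤ Nat.card (el H r) := by
          refine Nat.card_le_card_of_injective (fun y => ⟨y.1, mem_el.2 ⟨y.2.2, ?_⟩⟩) ?_
          · obtain ⟨d, hd⟩ := isConj_iff.1 y.2.1
            rw [← hd, ← hx2]
            exact (MulAut.conj d).orderOf_eq x
          · intro y z hyz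
            exact Subtype.ext (congrArg (fun t : el H r => (t : G)) hyz)
        rwa [Nat.card_eq_fintype_card, Fintype.card_coe] at h5
      have h4 := hc r hr x hx1 hx2
      gcongr
    refine (Finset.sum_le_sum h2).trans ?_
    rw [Finset.sum_const, nsmul_eq_mul, pow_two, mul_div_assoc]
    refine mul_le_mul_of_nonneg_right ?_ (by positivity)
    exact_mod_cast hN r hr
  calc (1 / ((r : ℚ) - 1)) * ∑ x ∈ el H r, (cH H x / cG x : ℚ)
      ≤ (1 / ((r : ℚ) - 1)) * ((N r : ℚ) ^ 2 / c r) := mul_le_mul_of_nonneg_left h1 (one_div_nonneg.2 hpos.le)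
    _ = _ := by field_simp

end Cfsg.Agent.H742.EX

private theorem dce_6e08ae4de377 : _root_.True := by
  try have : _root_.True := by simp only [_root_.Cfsg.Agent.H742.EX.F.eq_1]
  try have : _root_.True := by simp only [_root_.Cfsg.Agent.H742.EX.cG.eq_1]
  try have : _root_.True := by simp only [_root_.Cfsg.Agent.H742.EX.el.congr_simp]
  try have : _root_.True := by simp only [_root_.Cfsg.Agent.H742.EX.el.eq_1]
  try have : _root_.True := by simp only [_root_.Cfsg.Agent.H742.EX.cH.eq_1]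
  exact _root_.True.intro
end
end
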